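import Cfsg.Agent.OddChar.TypeP.Exceptional.Gamma
import Cfsg.Agent.OddChar.TypeP.TypeThree.Basic

/-!
# A member of type III bounds the other one (notes/ft/endgame.md, section 6 B)
-/

set_option autoImplicit false
set_option linter.unusedSectionVars false
set_option linter.style.haveILetI false

namespace Cfsg.Agent.OddChar.TypeP.Exceptional

open Cfsg Subgroup
open Cfsg.Agent.OddLocal
open Cfsg.Agent.Characters Cfsg.Agent.OddChar.Signed Cfsg.Agent.OddChar.Isometry
open Cfsg.Agent.OddChar.TypeP.Tools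

universe u

variable {G : Type u} [Group G] [Fintype G] {S T W₁ W₂ U V : Subgroup G}
  {η : (↥(W₁ ⊔ W₂) →* ℂˣ) → G → ℂ}

/-- The characters of `T` induced from the nontrivial characters of `T'/T_F`. -/
def linSet (T : Subgroup G) [Fintype T] : Set (↥T → ℂ) :=
  inducedIrrAbove (derivedIn T) ((fittingHallOf T).subgroupOf T)

section Lin

variable [Fintype T] (s : Side T W₂ V W₁) (hcore : typeCore T = ⁅T, T⁆)
include s hcore

theorem linSet_subset : linSet T ⊆ calS T := by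
  rw [Noncoherent.calS_eq_above hcore]
  haveI := Noncoherent.derivedIn_normal T
  exact Coherence.above_mono _ bot_le

theorem linSet_conj {φ : ↥T → ℂ} (h : φ ∈ linSet T) : Cfsg.conjFun φ ∈ linSet T := by
  haveI := Noncoherent.derivedIn_normal T
  exact Coherence.above_conj _ _ h

theorem derived_le_fitting : ⁅(⁅T, T⁆ : Subgroup G), ⁅T, T⁆⁆ ≤ fittingHallOf T := by
  haveI := s.comm
  rw [show (⁅T, T⁆ : Subgroup G) = fittingHallOf T ⊔ V from le_antisymm (fun x hx => by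
      obtain ⟨a, ha, b, hb, rfl⟩ := s.hP.U_compl.2.2.2 x hx
      exact mul_mem_sup ha hb) (sup_le s.hP.U_compl.1 s.hP.U_compl.2.1)]
  exact TypeThree.commutator_sup_le ((H_le_M T).trans (M_le_normalizer_H T))
    ((U_le_M s.hP).trans (M_le_normalizer_H T)) (fittingHallOf T).commutator_le_self
    (Cfsg.Agent.Coprime.commutator_le_of_le_normalizer ((U_le_M s.hP).trans (M_le_normalizer_H T)))
    (le_trans (le_of_eq (commutator_eq_bot_iff_le_centralizer.mpr
      (le_centralizer_iff_isMulCommutative.mpr inferInstance))) bot_le)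

theorem inv_fitting : TypeThree.Inv T (fittingHallOf T) :=
  ⟨H_le_derived s.hP, M_le_normalizer_H T⟩

theorem fitting_ne : fittingHallOf T ≠ ⁅T, T⁆ := fun e => s.ne (le_bot_iff.mp (by
  calc V ≤ fittingHallOf T ⊓ V := le_inf (e.symm ▸ s.hP.U_compl.2.1) le_rfl
    _ = ⊥ := s.hP.U_compl.2.2.1))

theorem linSet_spec {φ : ↥T → ℂ} (hφ : φ ∈ linSet T) :
    IsIrrCharacter ↥T φ ∧ φ 1 = (Nat.card W₂ : ℂ) := by
  classical
  haveI := Noncoherent.derivedIn_normal T
  haveI := (inv_fitting s hcore).normal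
  have hdeg : φ 1 = (Nat.card W₂ : ℂ) := by
    obtain ⟨θ, hθ, -, hk, rfl⟩ := hφ
    obtain ⟨f, hf0, hf⟩ := irr_one_pos hθ
    have hb := Coherence.degree_bound (derivedIn T)
      (B := (fittingHallOf T).subgroupOf T) (C := derivedIn T) (D := derivedIn T)
      (TypeThree.subgroupOf_le_of_le (inv_fitting s hcore).le) le_rfl le_rfl (fun x hx y hy => by
        have := derived_le_fitting s hcore
          (commutator_mem_commutator (mem_subgroupOf.mp hx) (mem_subgroupOf.mp hy))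
        rw [mem_subgroupOf]
        simpa [commutatorElement_def] using this) hθ hk hf
    rw [relIndex_self, one_pow, one_mul] at hb
    have : f = 1 := le_antisymm (by nlinarith) hf0
    rw [indFun_one, Noncoherent.index_derivedIn s.hP, hf, this, Nat.cast_one, mul_one]
  refine ⟨by_contra fun hn => ?_, hdeg⟩
  obtain ⟨μ, δ, hμ, hd⟩ := s.exists_mu
  obtain ⟨j, hj, hj1, rfl⟩ := hμ.red_eq_col s.hG s.hP (linSet_subset s hcore hφ) hn
  rw [hμ.col_apply_derived s.hG s.hP j (x := (1 : ↥T)) (one_mem _), hd j hj hj1] at hdeg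
  have h : (Nat.card V : ℂ) = 1 := (mul_eq_left₀ natCard_ne_zero).1 hdeg
  exact s.ne (card_eq_one.mp (by exact_mod_cast h))

theorem card_linSet :
    Nat.card V ≤ Nat.card W₂ * (Coherence.above_finite (derivedIn T)
      ((fittingHallOf T).subgroupOf T)).toFinset.card + 1 := by
  classical
  haveI := Noncoherent.derivedIn_normal T
  haveI := (inv_fitting s hcore).normal
  obtain ⟨μ, δ, hμ⟩ := mu s.hG T W₂ V W₁ s.hM s.hP
  obtain ⟨η₀, hη₀⟩ := CyclicTI.exists_family s.hP.selfNormalizing (s.odd_card _)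
  obtain ⟨R, hR, -⟩ := subcoherent s.hG T W₂ V W₁ s.hM s.hP η₀ hη₀ μ δ hμ
  rw [Noncoherent.calS_eq_above hcore] at hR
  set F := (Coherence.above_finite (derivedIn T) ((fittingHallOf T).subgroupOf T)).toFinset
  have h := Coherence.sum_above (derivedIn T) hR ((fittingHallOf T).subgroupOf T) F
    (fun φ hφ => by
      rw [← Noncoherent.calS_eq_above hcore]
      exact linSet_subset s hcore ((Set.Finite.mem_toFinset _).1 hφ))
    (fun φ hφ => (Set.Finite.mem_toFinset _).2 hφ) (fun _ => Nat.card W₂) (fun _ => 1)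
    (fun φ hφ => (linSet_spec s hcore ((Set.Finite.mem_toFinset _).1 hφ)).2)
    (fun φ hφ => by
      rw [classInner_isIrr_self (linSet_spec s hcore ((Set.Finite.mem_toFinset _).1 hφ)).1,
        Nat.cast_one])
  rw [Noncoherent.index_derivedIn s.hP, derivedIn, relIndex_subgroupOf T.commutator_le_self,
    Finset.sum_const, nsmul_eq_mul, Nat.cast_one, div_one] at h
  have hrel : (fittingHallOf T).relIndex ⁅T, T⁆ = Nat.card V := by
    apply Nat.eq_of_mul_eq_mul_left (n := Nat.card (fittingHallOf T)) Nat.card_pos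
    rw [card_mul_relIndex (H_le_derived s.hP),
      Basics.card_eq_of_isCompl' s.hP.U_compl.1 s.hP.U_compl.2.1 s.hP.U_compl.2.2.1
        s.hP.U_compl.2.2.2]
  rw [hrel] at h
  have hp : (0 : ℝ) < (Nat.card W₂ : ℝ) := Nat.cast_pos.2 Nat.card_pos
  have h2 : (Nat.card V : ℝ) ≤ ((Nat.card W₂ * F.card + 1 : ℕ) : ℝ) := by
    push_cast
    have := le_of_mul_le_mul_left (a := (Nat.card W₂ : ℝ)) (b := (Nat.card V : ℝ) - 1)
      (c := (Nat.card W₂ : ℝ) * F.card) (by linarith) hp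
    linarith
  exact_mod_cast h2

end Lin

/-- If `T` has type III then `|W₁| (|V| - 1) ≤ |W₂| (|U| - 1)`. -/
theorem typeThree_bound (h3c : TypeThreeColumnStatement.{u}) [Fintype S] [Fintype T]
    (d : Duo S T W₁ W₂ U V η) (s : Side S W₁ U W₂) (sT : Side T W₂ V W₁) (hIII : IsOfTypeIII T) :
    Nat.card W₁ * (Nat.card V - 1) ≤ Nat.card W₂ * (Nat.card U - 1) := by
  classical
  haveI : Fintype (↥(W₁ ⊔ W₂) →* ℂˣ) := Fintype.ofFinite _
  haveI : Fintype (leftSet W₂ W₁) := Fintype.ofFinite _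
  haveI := Noncoherent.derivedIn_normal T
  have hG := d.hG
  obtain ⟨-, -, -, -, hcore⟩ := Noncoherent.exists_core hG d.hT (Or.inl hIII)
  obtain ⟨μ, δ, hμ⟩ := mu hG T W₂ V W₁ d.hT d.hTP
  obtain ⟨R, hR, -⟩ := subcoherent hG T W₂ V W₁ d.hT d.hTP _ d.swap.hη μ δ hμ
  rw [Noncoherent.calS_eq_above hcore] at hR
  obtain ⟨-, τ₁, hiso, hag⟩ := TypeThree.coh_abelian hG d.hT d.hTP ⟨R, hR⟩ (inv_fitting sT hcore)
    (fitting_ne sT hcore) (derived_le_fitting sT hcore)
  have hcard := card_linSet sT hcore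
  set F := (Coherence.above_finite (derivedIn T) ((fittingHallOf T).subgroupOf T)).toFinset
  have hF : ∀ {φ : ↥T → ℂ}, φ ∈ F ↔ φ ∈ linSet T := fun {φ} => Set.Finite.mem_toFinset _
  have hv1 : 1 < Nat.card V := (one_lt_card_iff_ne_bot V).2 sT.ne
  obtain ⟨ζ, hζF⟩ : F.Nonempty := by
    rw [← Finset.card_pos]
    rcases Nat.eq_zero_or_pos F.card with e | e
    · rw [e, mul_zero] at hcard; omega
    · exact e
  have hζ := hF.1 hζF
  obtain ⟨hζi, hζ1⟩ := linSet_spec sT hcore hζ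
  have hdeg : ∀ {φ : ↥T → ℂ}, φ ∈ linSet T → φ 1 = (Nat.card W₂ : ℂ) := fun h =>
    (linSet_spec sT hcore h).2
  have hirr : ∀ {φ : ↥T → ℂ}, φ ∈ linSet T → IsIrrCharacter ↥T φ := fun h =>
    (linSet_spec sT hcore h).1
  have hsub : linSet T ⊆ calS T := linSet_subset sT hcore
  have hle : ∀ {α : ↥T → ℂ}, α ∈ zspanOn (linSet T) {1}ᶜ → α ∈ zspanOn (calS T) {1}ᶜ := fun h =>
    ⟨Submodule.span_mono hsub h.1, h.2⟩
  -- the extension
  have hsirr : ∀ {φ : ↥T → ℂ}, φ ∈ linSet T → IsSIrr (τ₁ φ) := fun h =>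
    isSIrr_of_norm_one (hiso.2.2.2 _ (mem_zS h))
      (by rw [hiso.2.2.1 _ (mem_zS h) _ (mem_zS h), classInner_isIrr_self (hirr h)])
  have hdiff : ∀ {φ ψ : ↥T → ℂ}, φ ∈ linSet T → ψ ∈ linSet T →
      φ - ψ ∈ zspanOn (linSet T) {1}ᶜ ∧ τ₁ φ - τ₁ ψ = tau T (φ - ψ) := fun {φ ψ} h h' => by
    have hm : φ - ψ ∈ zspanOn (linSet T) {1}ᶜ :=
      mem_zspanOn_compl_one (Submodule.sub_mem _ (mem_zS h) (mem_zS h'))
        (by rw [Pi.sub_apply, hdeg h, hdeg h', sub_self])
    refine ⟨hm, ?_⟩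
    rw [← hag _ hm, map_sub' (M := zS (linSet T)) hiso (mem_zS h) (mem_zS h')]
  have hζc := linSet_conj sT hcore hζ
  have horth : ∀ {φ : ↥T → ℂ}, φ ∈ linSet T → classInner (τ₁ φ) (τ₁ (Cfsg.conjFun φ)) = 0 :=
    fun h => by
    rw [hiso.2.2.1 _ (mem_zS h) _ (mem_zS (linSet_conj sT hcore h))]
    exact Coherence.inner_comm_zero (SibleyPrime.conj_orth T _
      (hG.1.of_dvd_nat (card_subgroup_dvd_card T)) (hsub h).1)
  have hconj : ∀ {φ : ↥T → ℂ}, φ ∈ linSet T → Cfsg.conjFun (τ₁ φ) = τ₁ (Cfsg.conjFun φ) :=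
    fun {φ} h => by
    have hc := linSet_conj sT hcore h
    refine conjFun_eq_of_sub (hsirr h) (hsirr hc) (horth h) ?_
    rw [(hdiff hc h).2, (hdiff h hc).2]
    show Cfsg.conjFun (dadeIsometry _ _ _ _) = dadeIsometry _ _ _ _
    rw [← dade_conjFun]
    congr 1
    funext x
    simp [Cfsg.conjFun]
  have heta : ∀ {φ : ↥T → ℂ}, φ ∈ linSet T → ∀ ω, classInner (τ₁ φ) (η ω) = 0 := fun {φ} h ω => by
    refine inner_family_eq_zero d.hW d.odd_W d.hη (hsirr h) (by rw [hconj h]; exact horth h)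
      (fun w h1 h2 => ?_) ω
    have e := hdiff h (linSet_conj sT hcore h)
    have hv := congrFun e.2 (w : G)
    rw [tau_calS_vanish_V hμ hG d.hT d.hTP (hle e.1)
      (⟨(w : G), (sup_comm W₂ W₁).ge w.2⟩ : ↥(W₂ ⊔ W₁)) h2 h1, Pi.sub_apply, sub_eq_zero] at hv
    rw [hv, hconj h]
  -- the base
  have hone : ∀ i : leftSet W₂ W₁,
      μ ((i : ↥(W₂ ⊔ W₁) →* ℂˣ) * (1 : ↥(W₂ ⊔ W₁) →* ℂˣ)) 1 = 1 := fun i => by
    rw [hμ.col_degree _ i.2, hμ.map_one]
  have hcol1 : colSum μ 1 1 = (Nat.card W₂ : ℂ) := by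
    rw [colSum_eq_sum, Finset.sum_apply, Finset.sum_congr rfl fun i _ => hone i, Finset.sum_const,
      Finset.card_univ, ← Nat.card_eq_fintype_card, card_leftSet d.swap.hW, nsmul_eq_mul, mul_one]
  set α : ↥T → ℂ := colSum μ 1 - ζ with hα
  have hαc : IsClassFunction ↥T α := fun g h => by
    simp only [hα, Pi.sub_apply]
    rw [hμ.col_isClassFunction hG d.hTP 1 g h,
      char_isClassFunction (isCharacter_of_isIrr hζi) g h]
  have hαA : ∀ x : T, (x : G) ∉ typeA T → α x = 0 := fun x hx => by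
    by_cases hd : (x : G) ∈ ⁅T, T⁆
    · by_cases h1 : x = 1
      · rw [h1, hα, Pi.sub_apply, hcol1, hζ1, sub_self]
      · refine absurd ((mem_typeA_iff hG d.hT d.hTP).2 ⟨hd, fun e => h1 (Subtype.ext e), x,
          hcore.ge hd, fun e => h1 (Subtype.ext e), rfl⟩) hx
    · rw [hα, Pi.sub_apply, hμ.col_apply_notMem hG d.hTP 1 hd,
        calS_vanish_off (Submodule.subset_span (hsub hζ)) hd, sub_zero]
  have hαA0 : ∀ x : T, (x : G) ∉ typeA0 T → α x = 0 := fun x hx => hαA x fun h => hx (Or.inl h)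
  have hαgen : IsGeneralizedCharacter ↥T α := by
    refine isGen_sub ?_ (isGen_of_isCharacter (isCharacter_of_isIrr hζi))
    rw [colSum_eq_sum]
    exact isGen_sum _ _ fun i _ => isGen_of_isCharacter (isCharacter_of_isIrr (hμ.irr _))
  set Y : G → ℂ := tau T α with hY
  have hYgen : IsGeneralizedCharacter G Y := Dade.isGen (dadeHyp hG d.hT) hαgen hαA0
  have hY1 : classInner Y (fun _ => 1) = 1 := by
    rw [hY, inner_tau_one hG d.hT hαc hαA0, hα, classInner_sub_left, colSum_eq_sum,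
      classInner_sum_left, Finset.sum_eq_single (⟨1, one_mem_leftSet⟩ : leftSet W₂ W₁)]
    · show classInner (μ (1 * 1)) (fun _ => 1) - _ = 1
      rw [show ((1 : ↥(W₂ ⊔ W₁) →* ℂˣ) * 1) = 1 from one_mul (1 : ↥(W₂ ⊔ W₁) →* ℂˣ), hμ.map_one,
        classInner_isIrr_self isIrrCharacter_one, classInner_isIrr_ne hζi isIrrCharacter_one
          (fun e => d.hp.ne_one (by
            have := congrFun e 1
            rw [hζ1] at this
            exact_mod_cast this)), sub_zero]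
    · intro i _ hi
      rw [← hμ.map_one]
      exact classInner_isIrr_ne (hμ.irr _) (hμ.irr 1) fun e =>
        hi (Subtype.ext ((mul_one _).symm.trans (hμ.inj e)))
    · exact fun h => absurd (Finset.mem_univ _) h
  have hconjα : Cfsg.conjFun α = colSum μ 1 - Cfsg.conjFun ζ := by
    rw [hα, conjFun_sub, hμ.conj_col hG d.hTP,
      show (1 : ↥(W₂ ⊔ W₁) →* ℂˣ)⁻¹ = 1 from MonoidHom.ext fun _ => inv_one]
  have hreal : IsReal (Y + τ₁ ζ) := by
    have e := (hdiff hζ hζc).2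
    have h : Cfsg.conjFun (Y + τ₁ ζ) = Y + τ₁ ζ := by
      rw [conjFun_add, hconj hζ, hY, show Cfsg.conjFun (tau T α) = tau T (Cfsg.conjFun α) from
        (dade_conjFun _ _ _ _).symm, hconjα, hα, tau_sub, tau_sub]
      rw [tau_sub] at e
      calc tau T (colSum μ 1) - tau T (Cfsg.conjFun ζ) + τ₁ (Cfsg.conjFun ζ)
          = tau T (colSum μ 1) + (tau T ζ - tau T (Cfsg.conjFun ζ)) - tau T ζ +
              τ₁ (Cfsg.conjFun ζ) := by abel
        _ = _ := by rw [← e]; abel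
    exact fun g => congrFun h g
  -- against `S`
  obtain ⟨j, hj, hj1⟩ := exists_right_ne_one d.hSP
  set g := s.ghyp
  have hgen := g.isGen_tauGam hj
  have hηj : IsGeneralizedCharacter G (η j) := IsSIrr.isGen (d.hη.irr_or_neg j)
  have horthS : ∀ {β : ↥T → ℂ}, IsClassFunction ↥T β → (∀ x : T, (x : G) ∉ typeA T → β x = 0) →
      classInner (g.tauGam j) (tau T β) = 0 := fun hc hs =>
    inner_tau_A0_partner hG d.hS d.hT d.hSP d.hTP d.not_conj hc hs
  have hYX : classInner Y (g.tauGam j) = 0 := Coherence.inner_comm_zero (horthS hαc hαA)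
  have hYη : classInner Y (η j) = 0 := by
    have hj' : swapDual j ∉ rightSet W₂ W₁ := fun h => by
      have hl : swapDual j ∈ leftSet W₂ W₁ := swapDual_mem_leftSet.2 hj
      refine hj1 ?_
      rw [← swapDual_swapDual j, ((CyclicTI.split_of d.swap.hW).mul_inj hl one_mem_leftSet
        one_mem_rightSet h ((mul_one (swapDual j)).trans (one_mul (swapDual j)).symm)).1,
        swapDual_one]
    have h := (h3c hG T W₂ V W₁ d.hT d.hTP hIII _ d.swap.hη μ δ hμ ζ (hsub hζ) hζi hζ1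
      (swapDual j)).2 hj'
    rwa [swapDual_swapDual] at h
  obtain ⟨t, ht⟩ := classInner_gen_int (hiso.2.2.2 _ (mem_zS hζ)) hgen
  obtain ⟨m, x, x', hx, hx', h⟩ := even_inner_sub hG.1 (isGen_add hYgen (hiso.2.2.2 _ (mem_zS hζ)))
    (isGen_add hgen hηj) hreal (g.tauGam_add_eta_real hj hj1 d.hη)
  rw [classInner_add_left, hY1, ← d.hη.map_one, heta hζ, add_zero] at hx
  rw [classInner_add_left, g.inner_tauGam_one hj hj1, inner_eta_one d.hη hj1, add_zero] at hx'
  rw [classInner_add_left, classInner_add_right, classInner_add_right, hYX, hYη, ht, heta hζ,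
    (show x = 1 by exact_mod_cast hx.symm), (show x' = 1 by exact_mod_cast hx'.symm)] at h
  have ht1 : 1 ≤ t ^ 2 := by
    have h' : t = 1 * 1 + 2 * m := by
      have : (t : ℂ) = ((1 * 1 + 2 * m : ℤ) : ℂ) := by linear_combination h
      exact_mod_cast this
    exact Int.add_one_le_of_lt (pow_two_pos_of_ne_zero (by omega))
  obtain ⟨b, hb⟩ := exists_coef d.hη hgen
  have hconst : ∀ φ ∈ F, classInner (g.tauGam j) (τ₁ φ) = (t : ℂ) := fun φ hφ => by
    have h0 : classInner (g.tauGam j) (τ₁ φ - τ₁ ζ) = 0 := by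
      rw [(hdiff (hF.1 hφ) hζ).2]
      exact horthS (isClassFunction_of_mem_calS (hle (hdiff (hF.1 hφ) hζ).1).1)
        (supp_calS hG d.hT d.hTP (hle (hdiff (hF.1 hφ) hζ).1))
    rw [classInner_sub_right, sub_eq_zero] at h0
    rw [h0, inner_comm_int ht]
  have hb' := (norm_bound d.hη F τ₁ (fun _ => 1) (fun _ _ => one_pos)
    (fun φ hφ ψ hψ => by
      rw [hiso.2.2.1 _ (mem_zS (hF.1 hφ)) _ (mem_zS (hF.1 hψ))]
      split_ifs with e
      · rw [e, classInner_isIrr_self (hirr (hF.1 hψ)), Nat.cast_one]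
      · exact classInner_isIrr_ne (hirr (hF.1 hφ)) (hirr (hF.1 hψ)) e)
    (fun φ hφ ω => Coherence.inner_comm_zero (heta (hF.1 hφ) ω)) (X := g.tauGam j) (u := fun _ => t) hconst hb).1
  rw [g.inner_tauGam_self hj hj1, s.relIndex_centU] at hb'
  have h2 : (2 : ℝ) ≤ ((∑ ω, b ω ^ 2 : ℤ) : ℝ) := by
    exact_mod_cast two_le_sum_sq s d.hη d.hTP hj hj1 hb
  simp only [Finset.sum_const, nsmul_eq_mul, Nat.cast_one, div_one] at hb'
  rw [show (2 + ((Nat.card U : ℂ) - 1) / (Nat.card W₁ : ℂ)).re =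
      2 + ((Nat.card U : ℝ) - 1) / (Nat.card W₁ : ℝ) by simp [Complex.div_natCast_re]] at hb'
  have ht1' : (1 : ℝ) ≤ (t : ℝ) ^ 2 := by exact_mod_cast ht1
  have h3 : (F.card : ℝ) ≤ ((Nat.card U : ℝ) - 1) / (Nat.card W₁ : ℝ) := by
    have := le_mul_of_one_le_right (Nat.cast_nonneg F.card : (0 : ℝ) ≤ F.card) ht1'
    linarith
  rw [le_div_iff₀ (Nat.cast_pos.2 Nat.card_pos)] at h3
  have h4 : F.card * Nat.card W₁ + 1 ≤ Nat.card U := by
    have : ((F.card * Nat.card W₁ + 1 : ℕ) : ℝ) ≤ (Nat.card U : ℝ) := by push_cast; linarith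
    exact_mod_cast this
  calc Nat.card W₁ * (Nat.card V - 1) ≤ Nat.card W₁ * (Nat.card W₂ * F.card) :=
        Nat.mul_le_mul_left _ (by omega)
    _ = Nat.card W₂ * (F.card * Nat.card W₁) := by ring
    _ ≤ _ := Nat.mul_le_mul_left _ (by omega)

end Cfsg.Agent.OddChar.TypeP.Exceptional
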