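import Cfsg.Agent.OddChar.TypeP.Exceptional.Over
import Cfsg.Agent.OddChar.TypeP.Exceptional.TypeThreeBound

/-!
# For `q < p` the member `S` is exceptional (notes/ft/endgame.md, section 6 C)
-/

set_option autoImplicit false
set_option linter.unusedSectionVars false
set_option linter.style.haveILetI false

namespace Cfsg.Agent.OddChar.TypeP.Exceptional

open Cfsg Subgroup
open Cfsg.Agent.OddLocal
open Cfsg.Agent.Characters Cfsg.Agent.OddChar.Signed Cfsg.Agent.OddChar.Isometry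
open Cfsg.Agent.OddChar.TypeP.Tools

universe u

theorem geom_mod {N p q : ℕ} (hp : 1 < p) (hq : 1 ≤ q) (h : N * (p - 1) + 1 = p ^ q) :
    N % p = 1 := by
  obtain ⟨p', rfl⟩ : ∃ p', p = p' + 1 := ⟨p - 1, by omega⟩
  obtain ⟨q', rfl⟩ : ∃ q', q = q' + 1 := ⟨q - 1, by omega⟩
  simp only [Nat.add_sub_cancel, pow_succ] at h
  have e2 : N + (p' + 1) ^ q' * (p' + 1) = 1 + N * (p' + 1) := by rw [← h]; ring
  have e3 := congrArg (· % (p' + 1)) e2
  simp only [Nat.add_mul_mod_self_right, Nat.one_mod_eq_one.2 (show p' + 1 ≠ 1 by omega)] at e3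
  exact e3

variable {G : Type u} [Group G] [Fintype G] {L L' S T W₁ W₂ U V : Subgroup G}
  {η : (↥(W₁ ⊔ W₂) →* ℂˣ) → G → ℂ}

/-- The complement acts freely, so orders are `1` modulo its subgroups. -/
theorem mod_one (o : OverData S T W₁ U L) (hG : IsMinSimpleOddOrder G) {K A : Subgroup G}
    (hK : K ≤ sigmaCore L) (hA : A ≤ L ⊓ T) (hn : A ≤ normalizer (K : Set G))
    (h1 : 1 < Nat.card A) : Nat.card K % Nat.card A = 1 := by
  have h := Cfsg.Agent.Coprime.fpf_card_mod hn fun a ha ha1 =>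
    le_bot_iff.mp ((inf_le_inf_right _ hK).trans (o.fpf hG (hA ha) ha1).le)
  rwa [Nat.one_mod_eq_one.2 h1.ne'] at h

theorem card_U_mod (o : OverData S T W₁ U L) (h : PairData S T W₁ W₂ U V)
    (s : Side S W₁ U W₂) : Nat.card U % Nat.card W₁ = 1 :=
  mod_one o s.hG o.U_le (o.W₁_le_compl h) h.hSP.U_normal s.hq.one_lt

theorem conj_le_compl {y : G} (hy : W₂.map (MulAut.conj y).toMonoidHom ≤ L ⊓ T) :
    W₂.map (MulAut.conj y).toMonoidHom ≤ normalizer (sigmaCore L : Set G) :=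
  (hy.trans inf_le_left).trans (Sigma.le_normalizer_sigmaCore L)

theorem conj_le_normalizer_of_eq {y : G} (hy : W₂.map (MulAut.conj y).toMonoidHom ≤ L ⊓ T)
    (e : U = sigmaCore L) : W₂.map (MulAut.conj y).toMonoidHom ≤ normalizer (U : Set G) := by
  subst e
  exact conj_le_compl hy

/-- A cyclic `L_σ` has `U` characteristic in it. -/
theorem conj_le_normalizer_of_cyclic (o : OverData S T W₁ U L) {y : G}
    (hy : W₂.map (MulAut.conj y).toMonoidHom ≤ L ⊓ T) (hc : IsCyclic (sigmaCore L)) :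
    W₂.map (MulAut.conj y).toMonoidHom ≤ normalizer (U : Set G) := by
  intro x hx
  have hxn := conj_le_compl hy hx
  have hle : U.map (MulAut.conj x).toMonoidHom ≤ sigmaCore L := by
    rintro _ ⟨a, ha, rfl⟩
    exact (mem_normalizer_iff.mp hxn a).mp (o.U_le ha)
  have e := Basics.subgroup_eq_of_card_eq_of_isCyclic (A := (U.map (MulAut.conj x).toMonoidHom).subgroupOf
    (sigmaCore L)) (B := U.subgroupOf (sigmaCore L)) (by
      rw [Nat.card_congr (subgroupOfEquivOfLe hle).toEquiv,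
        Nat.card_congr (subgroupOfEquivOfLe o.U_le).toEquiv, Transfer.Fusion.card_map_conj])
  rw [subgroupOf_inj, inf_eq_left.2 hle, inf_eq_left.2 o.U_le] at e
  exact Transfer.Fusion.map_conj_eq_self_iff.mp e

/-- `q Σ o² + (p - 1) u² + u = p ^ q u`. -/
theorem member_count [Fintype S] (s : Side S W₁ U W₂) :
    (Nat.card W₂ - 1) * Nat.card U ^ 2 + Nat.card W₁ * ∑ φ ∈ irrMem S, oDeg W₁ φ ^ 2 + Nat.card U =
      Nat.card W₂ ^ Nat.card W₁ * Nat.card U := by
  obtain ⟨μ, δ, hμ, hd⟩ := s.exists_mu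
  rw [← s.card]
  exact sum_degrees s.hG s.hM s.hP hμ hd

/-- In the reducible case there is a member of small degree. -/
theorem split_member [Fintype S] (s : Side S W₁ U W₂) {H₁ C₁ : Subgroup G} {a : ℕ}
    (hd : SplitData S W₁ U W₂ ⊥ ⊥ H₁ C₁ (Nat.card W₂) a) :
    Nat.card U ≤ a ∨ ∃ ψ ∈ irrMem S, oDeg W₁ ψ = a := by
  classical
  rcases le_or_gt (Nat.card U) a with hle | hlt
  · exact Or.inl hle
  obtain ⟨r, d, rfl⟩ := s.chief
  have hUS : U ≤ S := U_le_M s.hP
  have hSp := CoreCoherence.split s.hG.1 s.hP s.hq d hd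
  obtain ⟨S1, T₀, n, hS1, -, hcard, -, -, hrel⟩ := CoreCoherence.Split.families hSp (by
    rwa [relIndex_subgroupOf hUS, relIndex_bot_left])
  obtain ⟨φ, hφ⟩ := Finset.card_pos.1 (show 0 < S1.card by omega)
  obtain ⟨hi, hdeg, hmem, -, -⟩ := hS1 φ hφ
  rw [← CoreCoherence.calSH_eq (bot_le) (bot_le),
    show (⊥ : Subgroup G) ⊔ ⁅(⊥ : Subgroup G), ⊥⁆ = ⊥ by simp] at hmem
  refine Or.inr ⟨φ, mem_irrMem.2 ⟨hmem, hi⟩, ?_⟩
  have h := (oDeg_spec s.hP hmem).2
  rw [hdeg] at h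
  exact (Nat.eq_of_mul_eq_mul_left Nat.card_pos
    (show Nat.card W₁ * a = Nat.card W₁ * oDeg W₁ φ by exact_mod_cast h)).symm

/-- For `q < p` the complement of `L` has order `p q`. -/
theorem over_pq [Fintype L] [Fintype S] {τ₁ : (↥L → ℂ) → G → ℂ} {lam : ↥L → ℂ}
    (o : OverData S T W₁ U L) (h : PairData S T W₁ W₂ U V) (s : Side S W₁ U W₂)
    (sT : Side T W₂ V W₁) (c : LCtx L τ₁ lam) (d : Duo S T W₁ W₂ U V η)
    (hqp : Nat.card W₁ < Nat.card W₂) :
    ∃ z ∈ fittingHallOf T, W₂.map (MulAut.conj z).toMonoidHom ≤ L ⊓ T ∧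
      (fittingHall L).index = Nat.card W₁ * Nat.card W₂ := by
  rcases over_cases o h sT with ⟨hE, e⟩ | ⟨z, hz, hle, -, e⟩
  · exfalso
    obtain ⟨a, r, t, y⟩ := exists_ycoef c d
    obtain ⟨j, hj, hj1⟩ := exists_right_ne_one h.hSP
    have hWh := LCtx.card_core c
    have hb := budget_le c d y
    rw [e] at hb hWh
    rcases eSq_small (by exact_mod_cast s.q_three) (by exact_mod_cast hqp)
      (hb.trans (by exact_mod_cast hqp.le)) with ⟨-, h0, -⟩ | ⟨-, -, he⟩
    · have hg := gamma_bound c d s hj hj1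
        (by rw [y.ha, y.hs j hj hj1]) (by rw [h0]; exact ⟨0, rfl⟩)
      have hσ : U = sigmaCore L := eq_of_le_of_card_ge o.U_le (by rw [← hWh]; exact hg)
      have hLS : L ≤ S := by
        rw [← o.sup_compl, hE, ← hσ]
        exact sup_le (U_le_M h.hSP) (W₁_le_M h.hSP)
      rcases o.hL.le_iff.mp hLS with e' | e'
      · exact h.hS.1 e'
      · exact Set.not_nonempty_empty (o.kappa ▸ e' ▸
          Noncoherent.kappa_nonempty_of_typeP s.hG h.hS h.hSP)
    · rw [he] at hb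
      have : Nat.card W₂ ≤ Nat.card W₁ := by exact_mod_cast hb
      omega
  · exact ⟨z, hz, hle, e⟩

set_option maxHeartbeats 2000000 in
theorem exceptional_of_lt (h3 : TypeThreeStatement.{u}) (h3c : TypeThreeColumnStatement.{u})
    (hC : CentralizerStatement.{u}) (hG : IsMinSimpleOddOrder G)
    (h : PairData S T W₁ W₂ U V) (hqp : Nat.card W₁ < Nat.card W₂) :
    IsExceptional W₁ U W₂ := by
  classical
  haveI : Fintype S := Fintype.ofFinite _
  haveI : Fintype T := Fintype.ofFinite _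
  obtain ⟨s, sT⟩ := sides h3 hC hG h
  by_contra hne
  have hq3 := s.q_three
  have hp3 := s.p_three
  set q := Nat.card W₁ with hq
  set p := Nat.card W₂ with hp
  set u := Nat.card U with hu
  set v := Nat.card V with hv
  have hu1 : 1 < u := (one_lt_card_iff_ne_bot U).2 s.ne
  have hv1 : 1 < v := (one_lt_card_iff_ne_bot V).2 sT.ne
  have hp2 : q + 2 ≤ p := by
    have h1 := Nat.odd_iff.1 (s.odd_card W₁)
    have h2 := Nat.odd_iff.1 (s.odd_card W₂)
    omega
  obtain ⟨η, d⟩ := exists_duo s h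
  obtain ⟨τS, cS⟩ := s.exists_sctx
  obtain ⟨μ, δ, hμ, hμd⟩ := s.exists_mu
  obtain ⟨j, hj, hj1⟩ := exists_right_ne_one h.hSP
  obtain ⟨i, hi, hi1⟩ := exists_left_ne_one (W₁ := W₁) h.hTP
  -- `T` is exceptional of type II
  have hirr : (irrMem S).Nonempty :=
    Finset.nonempty_iff_ne_empty.2 fun e => hne (s.exceptional_of_irrMem_empty e)
  have hTex : IsExceptional W₂ V W₁ := by
    obtain ⟨τT, cT⟩ := sT.exists_sctx
    obtain ⟨ψ, hψ⟩ := hirr
    refine sT.exceptional_of_irrMem_empty (Finset.eq_empty_of_forall_notMem fun χ hχ => ?_)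
    obtain ⟨hψ1, hψ2⟩ := mem_irrMem.1 hψ
    obtain ⟨hχ1, hχ2⟩ := mem_irrMem.1 hχ
    exact not_both_irr d cS cT hψ1 hψ2 hχ1 hχ2
  have hve : v * (q - 1) + 1 = q ^ p := (Side.exceptional_iff s.hq.pos).1 hTex
  have hue : q * u * (p - 1) + 1 ≤ p ^ q := s.not_exceptional_bound hne
  have hbig : ∀ {x : ℕ}, q * (v - 1) ≤ x → x ≤ q * (p * (u - 1)) → False := fun h1 h2 =>
    Arith.not_le_of_exceptional hq3 hqp hve hue (h1.trans h2)
  have hTII : IsOfTypeII T := sT.types.resolve_right fun e => hbig (typeThree_bound h3c d s sT e)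
    (Nat.le_mul_of_pos_left _ s.hq.pos)
  have hVc : IsCyclic V := sT.cyclic_of_exceptional hTex
  -- `L'` over `N(V)`
  obtain ⟨L', o'⟩ := exists_over h.symm hG sT hTII
  haveI : Fintype L' := Fintype.ofFinite _
  obtain ⟨τ', lam', c'⟩ := exists_lctx hG o'.hL o'.kappa
  obtain ⟨a, r, t, y⟩ := exists_ycoef c' d
  set e' := (fittingHall L').index with he'
  set W' := wt L' with hW'
  have hW'h : e' * W' + 1 = Nat.card (sigmaCore L') := LCtx.card_core c'
  have hVh : v ∣ Nat.card (sigmaCore L') := card_dvd_of_le o'.U_le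
  have he'le : e' ≤ p * q := by
    rcases over_cases o' h.symm s with ⟨-, e⟩ | ⟨_, -, -, -, e⟩ <;> rw [he']
    · rw [e]; exact Nat.le_mul_of_pos_right _ s.hq.pos
    · rw [e]
  have hvW : v ≤ e' * W' + 1 := hW'h ▸ Nat.le_of_dvd Nat.card_pos hVh
  have hto : Odd t := by
    by_contra hev
    rw [Int.not_odd_iff_even] at hev
    have hg : q * W' + 1 ≤ u := gamma_bound c' d s hj hj1 (by rw [y.ha, y.hs j hj hj1]) hev
    refine hbig (x := e' * (q * W')) ?_ ?_
    · calc q * (v - 1) ≤ q * (e' * W') := Nat.mul_le_mul_left _ (by omega)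
        _ = e' * (q * W') := by ring
    · calc e' * (q * W') ≤ p * q * (u - 1) := Nat.mul_le_mul he'le (by omega)
        _ = q * (p * (u - 1)) := by ring
  -- the coefficients on the members
  choose! vc hvc using fun ψ (hψ : ψ ∈ irrMem S) =>
    classInner_gen_int c'.gen_Y (cS.iso.2.2.2 _ (mem_zS (mem_irrMem.1 hψ).1))
  have horthS : ∀ k ∈ irrMem S, ∀ l ∈ irrMem S,
      classInner (τS k) (τS l) = if k = l then 1 else 0 := fun k hk l hl => by
    obtain ⟨hk1, hk2⟩ := mem_irrMem.1 hk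
    obtain ⟨hl1, hl2⟩ := mem_irrMem.1 hl
    rw [cS.iso.2.2.1 _ (mem_zS hk1) _ (mem_zS hl1)]
    split_ifs with e
    · rw [e, classInner_isIrr_self hl2]
    · exact classInner_isIrr_ne hk2 hl2 e
  have hηS : ∀ k ∈ irrMem S, ∀ ω, classInner (η ω) (τS k) = 0 := fun k hk ω =>
    Coherence.inner_comm_zero (cS.inner_eta d.hη (mem_irrMem.1 hk).1 (mem_irrMem.1 hk).2 ω)
  have hLS : ∀ k ∈ irrMem S, ∀ φ ∈ famI L', classInner (τ' φ) (τS k) = 0 := fun k hk φ hφ =>
    cS.inner_famI c' hφ (mem_irrMem.1 hk).1 (mem_irrMem.1 hk).2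
  have hbud := budget_int c' d y (irrMem S) τS horthS hηS hLS hvc
  rw [← he', ← hq, ← hp] at hbud
  have hsv0 : (0 : ℤ) ≤ ∑ ψ ∈ irrMem S, vc ψ ^ 2 := Finset.sum_nonneg fun _ _ => sq_nonneg _
  have hrule : ∀ ψ ∈ irrMem S, ∃ ε : ℤ, (ε = 1 ∨ ε = -1) ∧
      ε * oDeg W₁ ψ * (t + ((q : ℤ) - 1) * (r + t - 1)) = u * vc ψ := fun ψ hψ =>
    psi_rule c' d cS hμ hj hj1 (hμd j hj hj1) y.ha y.h1 y.hr y.hs (mem_irrMem.1 hψ).1
      (mem_irrMem.1 hψ).2 (oDeg_spec h.hSP (mem_irrMem.1 hψ).1).2 (hvc ψ hψ)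
  have hexh : eSq (q : ℤ) p r t = e' → t + ((q : ℤ) - 1) * (r + t - 1) = 0 := fun he => by
    obtain ⟨ψ, hψ⟩ := hirr
    obtain ⟨ε, hε, hr'⟩ := hrule ψ hψ
    have hs0 : ∑ ψ ∈ irrMem S, vc ψ ^ 2 = 0 := le_antisymm (by linarith) hsv0
    have hv0 : vc ψ = 0 := sq_eq_zero_iff.1
      ((Finset.sum_eq_zero_iff_of_nonneg fun _ _ => sq_nonneg _).1 hs0 ψ hψ)
    have ho := (oDeg_spec h.hSP (mem_irrMem.1 hψ).1).1
    rw [hv0, mul_zero] at hr'
    refine (mul_eq_zero.1 hr').resolve_left ?_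
    rcases hε with rfl | rfl <;> simp [ho.ne']
  obtain ⟨heq, y₁, hy₁, hy₁le, -⟩ : e' = p * q ∧ ∃ y₁ ∈ fittingHallOf S,
      W₁.map (MulAut.conj y₁).toMonoidHom ≤ L' ⊓ S ∧ True := by
    rcases over_cases o' h.symm s with ⟨-, e⟩ | ⟨y₁, hy₁, hle, -, e⟩
    · exfalso
      have hb : eSq (q : ℤ) p r t ≤ p := by
        have : ((e' : ℕ) : ℤ) = (p : ℤ) := by rw [he']; exact_mod_cast e
        linarith
      rcases eSq_small (by exact_mod_cast hq3) (by exact_mod_cast hqp) hb with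
        ⟨-, h0, -⟩ | ⟨hr0, ht1, he⟩
      · rw [h0] at hto; exact Int.not_odd_zero hto
      · have := hexh (by rw [he]; exact_mod_cast e.symm)
        rw [hr0, ht1] at this
        norm_num at this
    · exact ⟨e, y₁, hy₁, hle, trivial⟩
  rw [heq] at hW'h hexh hbud hvW
  push_cast at hexh hbud
  have heS : eSq (q : ℤ) p r t ≤ p * q := by linarith
  have hcases := eSq_cases (by exact_mod_cast hq3) (by exact_mod_cast hp3) heS
  have hr_ev : Even r ∧ r + t - 1 = 0 := by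
    rcases hcases with ⟨hr', -, he⟩ | ⟨-, ht'⟩ | h0
    · exfalso
      have h0 := hexh he
      obtain ⟨k₁, hk₁⟩ := hr'
      obtain ⟨k₂, hk₂⟩ := hto
      obtain ⟨k₃, hk₃⟩ : Odd (q : ℤ) := (Int.odd_coe_nat _).2 (s.odd_card W₁)
      have e2 : ((q : ℤ) - 1) * (r + t - 1) = 2 * (k₃ * (r + t - 1)) := by rw [hk₃]; ring
      omega
    · exact absurd hto (Int.not_odd_iff_even.2 ht')
    · obtain ⟨k₂, hk₂⟩ := hto
      exact ⟨⟨-k₂, by omega⟩, h0⟩
  obtain ⟨hrev, he0⟩ := hr_ev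
  -- `T` bounds `L'_σ`, so it is `V`
  have hg' : p * W' + 1 ≤ v := by
    refine gamma_bound c' d.swap sT (j := swapDual i) (swapDual_mem_rightSet.2 hi)
      (fun e => hi1 (swapDual_injective (e.trans swapDual_one.symm))) ?_ hrev
    show classInner (YI L' lam') (η (swapDual (swapDual i))) = _
    rw [swapDual_swapDual, y.ha, y.hr i hi hi1]
  have hσ' : sigmaCore L' = V := by
    obtain ⟨m, hm⟩ := hVh
    have hvq : v % q = 1 := geom_mod (by omega) (by omega) hve
    have hm1 : m % q = 1 := by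
      have e3 : (v * m) % q = 1 := by
        rw [← hm, ← hW'h, show p * q * W' + 1 = q * (p * W') + 1 by ring, Nat.mul_add_mod,
          Nat.one_mod_eq_one.2 (by omega)]
      rwa [Nat.mul_mod, hvq, one_mul, Nat.mod_mod] at e3
    have hmlt : m < q := by
      by_contra hge
      push Not at hge
      have h2 : v * q ≤ v * m := Nat.mul_le_mul_left _ hge
      have h3' : q * (p * W') + q ≤ q * v := by
        rw [← Nat.mul_succ]; exact Nat.mul_le_mul_left _ (by omega)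
      rw [← hm, ← hW'h] at h2
      rw [mul_comm v q, show p * q * W' = q * (p * W') by ring] at h2
      omega
    rw [Nat.mod_eq_of_lt hmlt] at hm1
    subst hm1
    exact (eq_of_le_of_card_ge o'.U_le (by rw [hm, mul_one])).symm
  -- the members against `Y'`
  set Sv := ∑ ψ ∈ irrMem S, vc ψ ^ 2 with hSv
  have hte : eSq (q : ℤ) p r t = 1 + ((q : ℤ) - 1) * r ^ 2 + ((p : ℤ) - 1) * t ^ 2 := by
    rw [eSq, he0]; ring
  have ht1 : 1 ≤ t ^ 2 := Int.add_one_le_of_lt (pow_two_pos_of_ne_zero fun e => by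
    rw [e] at hto; exact Int.not_odd_zero hto)
  have htS : (p : ℤ) ≤ eSq (q : ℤ) p r t := by
    rw [hte]
    nlinarith [mul_nonneg (show (0 : ℤ) ≤ (q : ℤ) - 1 by omega) (sq_nonneg r),
      mul_le_mul_of_nonneg_left ht1 (show (0 : ℤ) ≤ (p : ℤ) - 1 by omega)]
  have htq : t ^ 2 ≤ q + 1 := by
    by_contra hlt
    push Not at hlt
    have : ((p : ℤ) - 1) * ((q : ℤ) + 2) ≤ ((p : ℤ) - 1) * t ^ 2 :=
      mul_le_mul_of_nonneg_left (by omega) (by omega)
    rw [hte] at heS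
    nlinarith [mul_nonneg (show (0 : ℤ) ≤ (q : ℤ) - 1 by omega) (sq_nonneg r)]
  have hsq : ∀ ψ ∈ irrMem S, (oDeg W₁ ψ : ℤ) ^ 2 * t ^ 2 = (u : ℤ) ^ 2 * vc ψ ^ 2 := fun ψ hψ => by
    obtain ⟨ε, hε, hr'⟩ := hrule ψ hψ
    rw [he0, mul_zero, add_zero] at hr'
    rw [← mul_pow (u : ℤ), ← hr']
    rcases hε with rfl | rfl <;> ring
  have hsum : (∑ ψ ∈ irrMem S, (oDeg W₁ ψ : ℤ) ^ 2) * t ^ 2 = (u : ℤ) ^ 2 * Sv := by
    rw [Finset.sum_mul, hSv, Finset.mul_sum]
    exact Finset.sum_congr rfl hsq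
  have hmc := member_count s
  rw [← hp, ← hq, ← hu] at hmc
  rcases s.dichotomy with ⟨r₀, hr₀, hgal⟩ | ⟨H₁, C₁, a₀, hsplit⟩
  swap
  · -- the reducible case
    obtain ⟨-, -, haodd, ha1, ha2⟩ := s.split_facts hsplit
    have hua : u ≤ t.natAbs * a₀ := by
      rcases split_member s hsplit with hle | ⟨ψ, hψ, ho⟩
      · exact hle.trans (Nat.le_mul_of_pos_left _ (Int.natAbs_pos.2 fun e => by
          rw [e] at hto; exact Int.not_odd_zero hto))
      · have h1 := congrArg Int.natAbs (hsq ψ hψ)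
        simp only [Int.natAbs_mul, Int.natAbs_pow, Int.natAbs_natCast] at h1
        rw [← mul_pow, ← mul_pow, ho] at h1
        have h2 := Nat.pow_left_injective two_ne_zero h1
        have hv0 : (vc ψ).natAbs ≠ 0 := fun e => by
          rw [e, mul_zero] at h2
          rcases mul_eq_zero.1 h2 with h3 | h3
          · omega
          · rw [Int.natAbs_eq_zero.1 h3] at hto; exact Int.not_odd_zero hto
        calc u ≤ u * (vc ψ).natAbs := Nat.le_mul_of_pos_right _ (Nat.pos_of_ne_zero hv0)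
          _ = a₀ * t.natAbs := h2.symm
          _ = _ := mul_comm _ _
    refine Arith.split_contra (c := t.natAbs) hq3 (s.odd_card W₁) hp2 ha2 ha1 haodd ?_ hua ?_
    · have : ((t.natAbs * t.natAbs : ℕ) : ℤ) ≤ ((q + 1 : ℕ) : ℤ) := by
        push_cast; rw [abs_mul_abs_self, ← pow_two]; exact htq
      exact_mod_cast this
    · have h1 : ((q * ∑ φ ∈ irrMem S, oDeg W₁ φ ^ 2 : ℕ) : ℤ) ≤
          ((u * (u * (q * (p * q - p))) : ℕ) : ℤ) := by
        push_cast [Nat.cast_sub (show p ≤ p * q from Nat.le_mul_of_pos_right p s.hq.pos)]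
        have h2 : (∑ ψ ∈ irrMem S, (oDeg W₁ ψ : ℤ) ^ 2) ≤ (u : ℤ) ^ 2 * Sv := by
          rw [← hsum]
          exact le_mul_of_one_le_right (Finset.sum_nonneg fun _ _ => sq_nonneg _) ht1
        have h3' : Sv ≤ (p : ℤ) * q - p := by linarith
        nlinarith [mul_le_mul_of_nonneg_left h3' (show (0 : ℤ) ≤ (q : ℤ) * u ^ 2 by positivity),
          mul_le_mul_of_nonneg_left h2 (show (0 : ℤ) ≤ (q : ℤ) by positivity)]
      have h2 : q * ∑ φ ∈ irrMem S, oDeg W₁ φ ^ 2 ≤ u * (u * (q * (p * q - p))) := by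
        exact_mod_cast h1
      refine Nat.le_of_mul_le_mul_right (c := u) ?_ (by omega)
      calc p ^ q * u = (p - 1) * u ^ 2 + q * (∑ φ ∈ irrMem S, oDeg W₁ φ ^ 2) + u := hmc.symm
        _ ≤ (p - 1) * u ^ 2 + u * (u * (q * (p * q - p))) + u := by omega
        _ = _ := by ring
  -- the irreducible case
  obtain ⟨N, k, hN, huk, hkN, hkodd, hk1, -⟩ := s.cofactor hne hr₀ hgal
  rw [← hp, ← hq] at hN
  rw [← hu] at huk
  have hkey : ((p : ℤ) - 1) * ((k : ℤ) - 1) * t ^ 2 = q * Sv := by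
    have e1 : (((p - 1) * u ^ 2 + q * (∑ φ ∈ irrMem S, oDeg W₁ φ ^ 2) + u : ℕ) : ℤ) =
        (((u * k * (p - 1) + 1) * u : ℕ) : ℤ) := by rw [hmc, huk, hN]
    push_cast [Nat.cast_sub (show 1 ≤ p by omega)] at e1
    have hu0 : ((u : ℤ) ^ 2) ≠ 0 := pow_ne_zero _ (by omega)
    refine mul_left_cancel₀ hu0 ?_
    linear_combination (q : ℤ) * hsum - t ^ 2 * e1
  have hSvle : (q : ℤ) * Sv + q * p ≤ q * (p * q) := by
    have := mul_le_mul_of_nonneg_left (show Sv + p ≤ (p : ℤ) * q by linarith)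
      (show (0 : ℤ) ≤ q by positivity)
    linarith
  have hk0 : 1 ≤ k := hkodd.pos
  have hkt : ((p : ℤ) - 1) * ((k : ℤ) - 1) ≤ q * Sv := hkey ▸
    le_mul_of_one_le_right (mul_nonneg (by omega) (by omega)) ht1
  have hkle : k ≤ q * q := by
    refine Arith.cofactor_le hq3 hqp ?_
    have : (((p - 1) * (k - 1) : ℕ) : ℤ) ≤ ((p * q * (q - 1) : ℕ) : ℤ) := by
      push_cast [Nat.cast_sub hk0, Nat.cast_sub (show 1 ≤ p by omega),
        Nat.cast_sub (show 1 ≤ q by omega)]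
      linarith
    exact_mod_cast this
  have hSII : IsOfTypeII S := s.types.resolve_right fun e => by
    have := (h3 hG S W₁ U W₂ h.hS h.hSP (Or.inl e)).2.1
    omega
  obtain ⟨L, o⟩ := exists_over h hG s hSII
  haveI : Fintype L := Fintype.ofFinite _
  obtain ⟨τ₁, lam, c⟩ := exists_lctx hG o.hL o.kappa
  obtain ⟨aL, rL, sL, yL⟩ := exists_ycoef c d
  have hWh := LCtx.card_core c
  obtain ⟨z, hz, hzle, hidx⟩ := over_pq o h s sT c d hqp
  rw [hidx] at hWh
  have huL : U ≤ sigmaCore L := o.U_le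
  have hnot : ¬ W₂.map (MulAut.conj z).toMonoidHom ≤ normalizer (U : Set G) := fun hn => by
    refine Arith.cofactor_mod_p s.hp s.hq hq3 hqp hN hkN hkodd hk1 hkle ?_
    have h1 : u % p = 1 := by
      have := mod_one o hG o.U_le hzle hn (by rw [Transfer.Fusion.card_map_conj]; exact s.hp.one_lt)
      rwa [Transfer.Fusion.card_map_conj] at this
    have h2 : N % p = 1 := geom_mod (by omega) (by omega) hN
    rwa [← huk, Nat.mul_mod, h1, one_mul, Nat.mod_mod] at h2
  have hne' : U ≠ sigmaCore L := fun e => hnot (conj_le_normalizer_of_eq hzle e)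
  by_cases hcj : ∃ g : G, L = L'.map (MulAut.conj g).toMonoidHom
  · obtain ⟨g, hg⟩ := hcj
    refine hnot (conj_le_normalizer_of_cyclic o hzle ?_)
    rw [hg, SigmaParts.sigmaCore_map, hσ']
    exact (MulEquiv.isCyclic (V.equivMapOfInjective _ (MulAut.conj g).injective)).mp hVc
  push Not at hcj
  rcases c'.cross c hcj with ⟨kk, hkk, hco⟩ | ⟨kk, hkk, hco⟩
  · -- `τ₁ λ` in `Y'`
    have hb := budget_int c' d y ((irrMem S).disjSum (memI L)) (Sum.elim τS τ₁) ?_ ?_ ?_
      (u := Sum.elim vc fun φ => (wI L φ : ℤ) * kk) ?_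
    rotate_left
    · rintro (k₁ | k₁) hk (l₁ | l₁) hl <;>
        simp only [Finset.inl_mem_disjSum, Finset.inr_mem_disjSum] at hk hl
      · simpa using horthS _ hk _ hl
      · simpa using Coherence.inner_comm_zero (cS.inner_famI c (c.mem.1 hl) (mem_irrMem.1 hk).1
          (mem_irrMem.1 hk).2)
      · simpa using cS.inner_famI c (c.mem.1 hk) (mem_irrMem.1 hl).1 (mem_irrMem.1 hl).2
      · simpa using c.inner_images (c.mem.1 hk) (c.mem.1 hl)
    · rintro (k₁ | k₁) hk ω <;> simp only [Finset.inl_mem_disjSum, Finset.inr_mem_disjSum] at hk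
      · simpa using hηS _ hk ω
      · simpa using Coherence.inner_comm_zero (c.inner_eta d.hS d.hSP d.hη (c.mem.1 hk) ω)
    · rintro (k₁ | k₁) hk φ hφ <;> simp only [Finset.inl_mem_disjSum, Finset.inr_mem_disjSum] at hk
      · simpa using hLS _ hk φ hφ
      · simpa using c'.inner_images' c hcj hφ (c.mem.1 hk)
    · rintro (k₁ | k₁) hk <;> simp only [Finset.inl_mem_disjSum, Finset.inr_mem_disjSum] at hk
      · simpa using hvc _ hk
      · simpa using hco _ (c.mem.1 hk)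
    rw [Finset.sum_disjSum, ← he', heq, ← hq, ← hp] at hb
    simp only [Sum.elim_inl, Sum.elim_inr] at hb
    rw [← hSv] at hb
    have hkk1 : 1 ≤ kk ^ 2 := Int.add_one_le_of_lt (pow_two_pos_of_ne_zero hkk)
    have hWle : (wt L : ℤ) ≤ ∑ φ ∈ memI L, ((wI L φ : ℤ) * kk) ^ 2 := by
      push_cast
      exact Finset.sum_le_sum fun φ _ => by
        rw [mul_pow]; exact le_mul_of_one_le_right (sq_nonneg _) hkk1
    push_cast at hb
    have hu1mod : u % q = 1 := card_U_mod o h s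
    obtain ⟨m, hm⟩ := card_dvd_of_le huL
    have hm1 : m % q = 1 := by
      have e3 : (u * m) % q = 1 := by
        rw [← hm, ← hWh, mul_assoc, Nat.mul_add_mod, Nat.one_mod_eq_one.2 (by omega)]
      rwa [Nat.mul_mod, hu1mod, one_mul, Nat.mod_mod] at e3
    have hmo : Odd m := (s.odd_card (sigmaCore L)).of_dvd_nat (hm ▸ dvd_mul_left m u)
    have hm1' : m ≠ 1 := fun e => hne' (eq_of_le_of_card_ge huL (by rw [hm, e, mul_one]))
    have hm2 : 2 * q + 1 ≤ m := by
      have h1 := Nat.div_add_mod m q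
      have h2 := Nat.odd_iff.1 hmo
      have h3' := Nat.odd_iff.1 (s.odd_card W₁)
      rcases hc : m / q with _ | _ | c₂ <;> rw [hc, hm1] at h1
      · omega
      · omega
      · nlinarith
    refine Arith.cross_right s.hp s.hq hq3 hqp hN huk hkodd hk1 hkle hm2 (fun hkq => ⟨?_, hmo⟩)
      (W := wt L) ?_ ?_
    · have h1 : (u * q) % p = 1 := by
        rw [show q = k from hkq.symm, huk]
        exact geom_mod (by omega) (by omega) hN
      have h2 : (u * m) % p = 1 := by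
        rw [← hm, ← hWh, show q * p * wt L + 1 = p * (q * wt L) + 1 by ring, Nat.mul_add_mod,
          Nat.one_mod_eq_one.2 (by omega)]
      calc m % p = (m * (u * q)) % p := by rw [Nat.mul_mod, h1, mul_one, Nat.mod_mod]
        _ = (q * (u * m)) % p := by ring_nf
        _ = q % p := by rw [Nat.mul_mod, h2, mul_one, Nat.mod_mod]
    · obtain ⟨WL, hWL⟩ : ∃ x, x = wt L := ⟨_, rfl⟩
      have hle : (WL : ℤ) + Sv + p ≤ (p : ℤ) * q := by rw [hWL]; linarith
      have hfin : ((q * WL + (p - 1) * (k - 1) + p * q : ℕ) : ℤ) ≤ ((q * (p * q) : ℕ) : ℤ) := by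
        push_cast [Nat.cast_sub hk0, Nat.cast_sub (show 1 ≤ p by omega)]
        have := mul_le_mul_of_nonneg_left hle (show (0 : ℤ) ≤ q by positivity)
        linarith
      rw [← hWL]
      exact_mod_cast hfin
    · rw [← hm, ← hWh]; ring
  · -- `τ' λ'` in `Y`
    have hb := budget_int c d yL (memI L') τ'
      (fun k hk l hl => c'.inner_images (c'.mem.1 hk) (c'.mem.1 hl))
      (fun k hk ω => Coherence.inner_comm_zero (c'.inner_eta d.hS d.hSP d.hη (c'.mem.1 hk) ω))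
      (fun k hk φ hφ => Coherence.inner_comm_zero (c'.inner_images' c hcj (c'.mem.1 hk) hφ))
      (u := fun φ => (wI L' φ : ℤ) * kk) (fun k hk => hco _ (c'.mem.1 hk))
    rw [hidx, ← hq, ← hp] at hb
    have hkk1 : 1 ≤ kk ^ 2 := Int.add_one_le_of_lt (pow_two_pos_of_ne_zero hkk)
    have hWle : (W' : ℤ) ≤ ∑ φ ∈ memI L', ((wI L' φ : ℤ) * kk) ^ 2 := by
      rw [hW']
      push_cast
      exact Finset.sum_le_sum fun φ _ => by
        rw [mul_pow]; exact le_mul_of_one_le_right (sq_nonneg _) hkk1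
    have he1 : 1 ≤ eSq (q : ℤ) p rL sL := by
      rw [eSq]
      nlinarith [mul_nonneg (show (0 : ℤ) ≤ (q : ℤ) - 1 by omega) (sq_nonneg rL),
        mul_nonneg (show (0 : ℤ) ≤ (p : ℤ) - 1 by omega) (sq_nonneg sL),
        mul_nonneg (show (0 : ℤ) ≤ ((q : ℤ) - 1) * ((p : ℤ) - 1) by
          exact mul_nonneg (by omega) (by omega)) (sq_nonneg (rL + sL - 1))]
    have hW1 : W' ≤ p * q - 1 := by
      have : (W' : ℤ) + 1 ≤ ((q * p : ℕ) : ℤ) := by push_cast at hb ⊢; linarith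
      have : W' + 1 ≤ q * p := by exact_mod_cast this
      rw [mul_comm p q]; omega
    refine Arith.cross_left s.hp s.hq hq3 hqp (fun ⟨h35, h5⟩ => ?_) hve
      (hvW.trans (Nat.add_le_add_right (Nat.mul_le_mul_left _ hW1) 1))
    rw [show q = 3 from h35, show p = 5 from h5] at hN
    rw [show q = 3 from h35] at hkle
    have hN31 : N = 31 := by omega
    rw [hN31] at hkN
    rcases (Nat.dvd_prime (by norm_num)).1 hkN with e | e <;> omega

theorem exceptional_of_statements (h3 : TypeThreeStatement.{u})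
    (h3c : TypeThreeColumnStatement.{u}) (hC : CentralizerStatement.{u}) :
    ExceptionalStatement.{u} := fun {G} _ _ hG _ _ _ _ _ _ h hqp =>
  haveI := Fintype.ofFinite G
  exceptional_of_lt h3 h3c hC hG h hqp

end Cfsg.Agent.OddChar.TypeP.Exceptional
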