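import Cfsg.Agent.OddChar.TypeP.Tools.Budget
import Cfsg.Agent.OddChar.TypeP.ChiefBasic
import Cfsg.Agent.OddChar.TypeP.Measure
import Cfsg.Agent.OddChar.TypeP.OddSum

/-!
# The count outside `Ã(L)` when `Y` is exactly known (notes/ft/endgame.md section 6)
-/

set_option autoImplicit false
set_option linter.unusedSectionVars false
set_option linter.style.haveILetI false

namespace Cfsg.Agent.OddChar.TypeP.Exceptional

open Cfsg Subgroup
open Cfsg.Agent.OddLocal Cfsg.Agent.OddLocal.SigmaParts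
open Cfsg.Agent.Characters Cfsg.Agent.OddChar.Signed Cfsg.Agent.OddChar.Isometry
open Cfsg.Agent.OddChar.TypeP.Tools
open scoped ComplexConjugate

universe u

variable {G : Type u} [Group G] [Fintype G] {L S T W₁ W₂ U V : Subgroup G}

/-- The union of the conjugates of `X`. -/
def conjUnion (X : Set G) : Set G := {g | ∃ y : G, y * g * y⁻¹ ∈ X}

theorem ncard_conjUnion_le (X : Set G) (K : Subgroup G)
    (hK : ∀ k ∈ K, ∀ x ∈ X, k * x * k⁻¹ ∈ X) :
    (conjUnion X).ncard * Nat.card K ≤ X.ncard * Nat.card G := by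
  let f : (G ⧸ K) × ↥X → G := fun q => q.1.out * (q.2 : G) * q.1.out⁻¹
  have hsub : conjUnion X ⊆ Set.range f := by
    rintro g ⟨y, hy⟩
    obtain ⟨⟨z, hz⟩, he⟩ := QuotientGroup.mk_out_eq_mul K y⁻¹
    refine ⟨(QuotientGroup.mk y⁻¹, ⟨z⁻¹ * (y * g * y⁻¹) * z, ?_⟩), ?_⟩
    · have := hK z⁻¹ (inv_mem hz) _ hy
      rwa [inv_inv] at this
    · simp only [f, he]
      group
  have h1 : (conjUnion X).ncard ≤ K.index * X.ncard := by
    refine (Set.ncard_le_ncard hsub (Set.toFinite _)).trans ?_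
    rw [← Nat.card_coe_set_eq, Subgroup.index, ← Nat.card_coe_set_eq X, ← Nat.card_prod]
    exact Finite.card_range_le f
  calc (conjUnion X).ncard * Nat.card K ≤ K.index * X.ncard * Nat.card K :=
        Nat.mul_le_mul_right _ h1
    _ = X.ncard * (Nat.card K * K.index) := by ring
    _ = X.ncard * Nat.card G := by rw [card_mul_index]

theorem card_S (hP : IsTypePWith S W₁ U W₂) :
    Nat.card S = Nat.card (fittingHallOf S) * Nat.card U * Nat.card W₁ := by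
  rw [card_M hP, card_derived hP]

theorem ncard_sdiff_one (H : Subgroup G) : (((H : Set G) \ {1}).ncard : ℝ) = (Nat.card H : ℝ) - 1 := by
  have h := Set.ncard_sdiff_singleton_add_one (s := (H : Set G)) (one_mem _)
  rw [← Nat.card_coe_set_eq (H : Set G)] at h
  have h' : (((H : Set G) \ {1}).ncard : ℝ) + 1 = (Nat.card H : ℝ) := by exact_mod_cast h
  linarith

/-- The conjugates of `S_F - 1`. -/
theorem measure_kernel (hP : IsTypePWith S W₁ U W₂) :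
    ((conjUnion ((fittingHallOf S : Set G) \ {1})).ncard : ℝ) / Nat.card G ≤
      1 / ((Nat.card U : ℝ) * Nat.card W₁) - 1 / (Nat.card S : ℝ) := by
  have h := ncard_conjUnion_le ((fittingHallOf S : Set G) \ {1}) S fun k hk x hx =>
    ⟨(mem_normalizer_iff.mp (M_le_normalizer_H S hk) x).mp hx.1,
      fun e => hx.2 (conj_eq_one_iff.mp e)⟩
  have h' : ((conjUnion ((fittingHallOf S : Set G) \ {1})).ncard : ℝ) * Nat.card S ≤
      (((fittingHallOf S : Set G) \ {1}).ncard : ℝ) * Nat.card G := by exact_mod_cast h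
  rw [ncard_sdiff_one] at h'
  have hS : (Nat.card S : ℝ) =
      (Nat.card (fittingHallOf S) : ℝ) * Nat.card U * Nat.card W₁ := by
    exact_mod_cast card_S hP
  have hG0 : (0 : ℝ) < Nat.card G := Nat.cast_pos.2 Nat.card_pos
  have hH0 : (0 : ℝ) < Nat.card (fittingHallOf S) := Nat.cast_pos.2 Nat.card_pos
  have hU0 : (0 : ℝ) < Nat.card U := Nat.cast_pos.2 Nat.card_pos
  have hW0 : (0 : ℝ) < Nat.card W₁ := Nat.cast_pos.2 Nat.card_pos
  rw [hS] at h' ⊢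
  rw [div_le_iff₀ hG0]
  refine le_of_mul_le_mul_right (h'.trans (le_of_eq ?_)) (mul_pos (mul_pos hH0 hU0) hW0)
  field_simp

/-- The conjugates of `W - W₁ ∪ W₂`. -/
theorem measure_W (hP : IsTypePWith S W₁ U W₂) :
    ((conjUnion ((↑(W₁ ⊔ W₂) : Set G) \ ((W₁ : Set G) ∪ W₂))).ncard : ℝ) / Nat.card G ≤
      ((Nat.card W₁ : ℝ) - 1) * ((Nat.card W₂ : ℝ) - 1) /
        ((Nat.card W₁ : ℝ) * Nat.card W₂) := by
  set X : Set G := (↑(W₁ ⊔ W₂) : Set G) \ ((W₁ : Set G) ∪ W₂) with hX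
  have hW := hP.selfNormalizing
  have hcard : Nat.card ↥(W₁ ⊔ W₂) = Nat.card W₁ * Nat.card W₂ := by
    refine Basics.card_eq_of_isCompl' le_sup_left le_sup_right hW.2.2.1 fun w hw => ?_
    obtain ⟨a, b, ha, hb, e⟩ := (CyclicTI.split_of hW).exists_mul ⟨w, hw⟩
    exact ⟨a, ha, b, hb, congrArg Subtype.val e⟩
  have h := ncard_conjUnion_le X (W₁ ⊔ W₂) fun k hk x hx => by
    have hc : k * x = x * k := congrArg Subtype.val (CyclicTI.comm_of hW ⟨k, hk⟩ ⟨x, hx.1⟩)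
    rwa [hc, mul_inv_cancel_right]
  have h1 : X.ncard + ((W₁ : Set G) ∪ W₂).ncard = Nat.card W₁ * Nat.card W₂ := by
    rw [hX, Set.ncard_sdiff_add_ncard_of_subset (Set.union_subset
      (fun x hx => mem_sup_left hx) fun x hx => mem_sup_right hx), ← Nat.card_coe_set_eq]
    exact hcard
  have h2 := Set.ncard_union_add_ncard_inter (W₁ : Set G) (W₂ : Set G)
  rw [← coe_inf, hW.2.2.1, coe_bot, Set.ncard_singleton, ← Nat.card_coe_set_eq (W₁ : Set G),
    ← Nat.card_coe_set_eq (W₂ : Set G)] at h2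
  have h1' : (X.ncard : ℝ) + (((W₁ : Set G) ∪ W₂).ncard : ℝ) =
      (Nat.card W₁ : ℝ) * (Nat.card W₂ : ℝ) := by exact_mod_cast h1
  have h2' : (((W₁ : Set G) ∪ W₂).ncard : ℝ) + 1 =
      (Nat.card W₁ : ℝ) + (Nat.card W₂ : ℝ) := by exact_mod_cast h2
  have hXc : (X.ncard : ℝ) = ((Nat.card W₁ : ℝ) - 1) * ((Nat.card W₂ : ℝ) - 1) := by linarith
  have h' : ((conjUnion X).ncard : ℝ) * Nat.card ↥(W₁ ⊔ W₂) ≤ (X.ncard : ℝ) * Nat.card G := by
    exact_mod_cast h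
  rw [hcard, Nat.cast_mul, hXc] at h'
  rw [div_le_iff₀ (Nat.cast_pos.2 Nat.card_pos), div_mul_eq_mul_div,
    le_div_iff₀ (mul_pos (Nat.cast_pos.2 Nat.card_pos) (Nat.cast_pos.2 Nat.card_pos))]
  exact h'

/-- An element of order divisible by `p` is conjugate into `S_F` or into `W - W₁ ∪ W₂`. -/
theorem conj_of_dvd (hG : IsMinSimpleOddOrder G) (hS : IsCoatom S) (hP : IsTypePWith S W₁ U W₂)
    (hp : (Nat.card W₂).Prime) (hq : (Nat.card W₁).Prime)
    (hPc : Nat.card (fittingHallOf S) = Nat.card W₂ ^ Nat.card W₁)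
    (hfree : ∀ x ∈ fittingHallOf S, x ≠ 1 → ⁅S, S⁆ ⊓ centralizer ({x} : Set G) ≤ fittingHallOf S)
    {g : G} (hg : Nat.card W₂ ∣ orderOf g) :
    g ∈ conjUnion ((fittingHallOf S : Set G) \ {1}) ∨
      g ∈ conjUnion ((↑(W₁ ⊔ W₂) : Set G) \ ((W₁ : Set G) ∪ W₂)) := by
  haveI := Fact.mk hp
  set p := Nat.card W₂ with hpdef
  have hPσ : fittingHallOf S ≤ sigmaCore S := fittingHallOf_le_sigmaCore hG hS
  have hpH : p ∣ Nat.card (fittingHallOf S) := hPc ▸ dvd_pow_self p hq.ne_zero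
  have hpσ : p ∈ sigma S :=
    Transitivity.isPi_piCoreOf (sigma S) S p hp (hpH.trans (card_dvd_of_le hPσ))
  have hidx : ¬ p ∣ (fittingHallOf S).index := by
    intro hd
    rw [← relIndex_mul_index hPσ] at hd
    rcases hp.dvd_mul.mp hd with h | h
    · refine hp.ne_one (Nat.eq_one_of_dvd_coprimes (Basics.fittingHallOf_coprime S) hpH (h.trans ?_))
      rw [← relIndex_mul_relIndex _ _ S hPσ (Sigma.sigmaCore_le S)]
      exact dvd_mul_right _ _
    · exact (Sigma.sigmaCore_hall hG hS).2.2 p hp hpσ h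
  have hPp : IsPGroup p (fittingHallOf S) := IsPGroup.of_card hPc
  let P : Sylow p G := hPp.toSylow hidx
  obtain ⟨a, ha, hao⟩ : ∃ a ∈ zpowers g, orderOf a = p :=
    ⟨g ^ (orderOf g / p), pow_mem (mem_zpowers g) _, orderOf_pow_orderOf_div (orderOf_pos g).ne' hg⟩
  have hap : IsPGroup p (zpowers a) := IsPGroup.of_card (n := 1) (by rw [Nat.card_zpowers, hao, pow_one])
  obtain ⟨R, hR⟩ := hap.exists_le_sylow
  obtain ⟨c, hc⟩ := MulAction.exists_smul_eq G R P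
  set b := c * a * c⁻¹ with hb
  have hbP : b ∈ fittingHallOf S := by
    have h1 : b ∈ (c • R : Sylow p G) := by
      show b ∈ ((c • R : Sylow p G) : Subgroup G)
      rw [Sylow.coe_subgroup_smul]
      exact ⟨a, hR (mem_zpowers a), rfl⟩
    rw [hc] at h1
    exact h1
  have hb1 : b ≠ 1 := fun e => hp.ne_one (by rw [← hao, conj_eq_one_iff.mp e, orderOf_one])
  have hbA : b ∈ typeA0 S := Or.inl (by
    rw [typeA, if_neg (Noncoherent.not_typeI_of_typeP hG hS hP)]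
    exact ⟨H_le_derived hP hbP, hb1, b, (Types.typeCore_eq hG hS).ge (hPσ hbP), hb1, rfl⟩)
  have hcomm : Commute (c * g * c⁻¹) b := by
    obtain ⟨i, rfl⟩ := mem_zpowers_iff.mp ha
    rw [hb, ← conj_zpow]
    exact (Commute.refl (c * g * c⁻¹)).zpow_right i
  have hgC : c * g * c⁻¹ ∈ centralizer ({b} : Set G) := mem_centralizer_singleton_iff.mpr hcomm.eq
  have hgS := Noncoherent.centralizer_le hG hS (Noncoherent.kappa_nonempty_of_typeP hG hS hP) hbA hgC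
  have hg1 : g ≠ 1 := fun e => hp.not_dvd_one (by rwa [e, orderOf_one] at hg)
  by_cases hd : c * g * c⁻¹ ∈ ⁅S, S⁆
  · exact Or.inl ⟨c, hfree b hbP hb1 (mem_inf.mpr ⟨hd, hgC⟩), fun e => hg1 (conj_eq_one_iff.mp e)⟩
  · obtain ⟨m, -, hmW, hm2⟩ := Noncoherent.conj_into hP hgS hd
    refine Or.inr ⟨m * c, ?_⟩
    rw [show m * c * g * (m * c)⁻¹ = m * (c * g * c⁻¹) * m⁻¹ by group]
    refine ⟨hmW, ?_⟩
    rintro (h | h)
    · have h1 := orderOf_dvd_natCard W₁ h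
      rw [TypeTwo.orderOf_conj, TypeTwo.orderOf_conj] at h1
      have h2 := (Nat.prime_dvd_prime_iff_eq hp hq).mp (hg.trans h1)
      haveI := hP.selfNormalizing.2.2.2.2.1
      have h3 := CyclicTI.card_coprime (CyclicTI.split_of hP.selfNormalizing)
      rw [← h2, Nat.coprime_self] at h3
      exact hp.ne_one h3
    · exact hm2 h

/-- The value of the `η` part off the conjugates of `W - W₁ ∪ W₂`. -/
theorem odd_eta_part (hW : IsSelfNormalizingCyclic W₁ W₂) {η : (↥(W₁ ⊔ W₂) →* ℂˣ) → G → ℂ}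
    (hη : IsCyclicTIFamily W₁ W₂ η) [Fintype (↥(W₁ ⊔ W₂) →* ℂˣ)]
    {a : (↥(W₁ ⊔ W₂) →* ℂˣ) → ℤ} (h1 : a 1 = 1)
    (hgrid : ∀ i ∈ leftSet W₁ W₂, ∀ j ∈ rightSet W₁ W₂, a (i * j) = a i + a j - a 1) {r s : ℤ}
    (hr : ∀ i ∈ leftSet W₁ W₂, i ≠ 1 → a i = r) (hs : ∀ j ∈ rightSet W₁ W₂, j ≠ 1 → a j = s)
    (hro : Odd r) (hso : Odd s) (hqo : Odd (Nat.card W₁)) (hpo : Odd (Nat.card W₂)) {g : G}
    (hg : ∀ x : G, x * g * x⁻¹ ∈ W₁ ⊔ W₂ → x * g * x⁻¹ ∈ W₁ ∨ x * g * x⁻¹ ∈ W₂)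
    {X Y : ℤ} (hX : Odd X) (hY : Odd Y) (hXe : colSum η 1 g = (X : ℂ))
    (hYe : colSum (W₁ := W₂) (W₂ := W₁) (fun ω => η (swapDual ω)) 1 g = (Y : ℂ)) :
    ∃ n : ℤ, Odd n ∧ (∑ ω, (a ω : ℂ) • η ω) g = (n : ℂ) := by
  classical
  haveI : Fintype (leftSet W₁ W₂) := Fintype.ofFinite _
  haveI : Fintype (rightSet W₁ W₂) := Fintype.ofFinite _
  haveI : Fintype (leftSet W₂ W₁) := Fintype.ofFinite _
  let i₀ : leftSet W₁ W₂ := ⟨1, one_mem_leftSet⟩
  let j₀ : rightSet W₁ W₂ := ⟨1, one_mem_rightSet⟩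
  have hi₀ : (i₀ : ↥(W₁ ⊔ W₂) →* ℂˣ) = 1 := rfl
  have hj₀ : (j₀ : ↥(W₁ ⊔ W₂) →* ℂˣ) = 1 := rfl
  have hη1 : η 1 g = 1 := congrFun hη.map_one g
  have hXs : ∑ i : leftSet W₁ W₂, η i g = (X : ℂ) := by
    rw [← hXe, colSum_eq_sum, Finset.sum_apply]
    exact Finset.sum_congr rfl fun i _ => congrArg (fun ω => η ω g) (mul_one (i : ↥(W₁ ⊔ W₂) →* ℂˣ)).symm
  have hYs : ∑ j : rightSet W₁ W₂, η j g = (Y : ℂ) := by
    rw [← hYe, colSum_eq_sum, Finset.sum_apply]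
    refine Finset.sum_bij' (fun j _ => ⟨swapDual j.1, swapDual_mem_leftSet.mpr j.2⟩)
      (fun i _ => ⟨swapDual i.1, swapDual_mem_rightSet.mpr i.2⟩) (by simp) (by simp)
      (fun j _ => rfl) (fun i _ => rfl) fun j _ => ?_
    exact congrArg (fun ω => η ω g) (mul_one (j : ↥(W₁ ⊔ W₂) →* ℂˣ)).symm
  have hA : ∀ i : leftSet W₁ W₂, (a i : ℂ) = (r : ℂ) + (if i = i₀ then 1 - (r : ℂ) else 0) := by
    intro i
    by_cases e : i = i₀
    · rw [if_pos e, e, hi₀, h1]; push_cast; ring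
    · rw [if_neg e, add_zero, hr i i.2 fun h => e (Subtype.ext h)]
  have hB : ∀ j : rightSet W₁ W₂, (a j : ℂ) = (s : ℂ) + (if j = j₀ then 1 - (s : ℂ) else 0) := by
    intro j
    by_cases e : j = j₀
    · rw [if_pos e, e, hj₀, h1]; push_cast; ring
    · rw [if_neg e, add_zero, hs j j.2 fun h => e (Subtype.ext h)]
  have hAη : ∑ i : leftSet W₁ W₂, (a i : ℂ) * η i g = (r : ℂ) * X + (1 - r) := by
    simp only [hA, add_mul, ite_mul, zero_mul, Finset.sum_add_distrib, ← Finset.mul_sum, hXs,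
      Finset.sum_ite_eq', Finset.mem_univ, if_true, hi₀, hη1, mul_one]
  have hBη : ∑ j : rightSet W₁ W₂, (a j : ℂ) * η j g = (s : ℂ) * Y + (1 - s) := by
    simp only [hB, add_mul, ite_mul, zero_mul, Finset.sum_add_distrib, ← Finset.mul_sum, hYs,
      Finset.sum_ite_eq', Finset.mem_univ, if_true, hj₀, hη1, mul_one]
  have hAs : ∑ i : leftSet W₁ W₂, (a i : ℂ) = (Nat.card W₁ : ℂ) * r + (1 - r) := by
    simp only [hA, Finset.sum_add_distrib, Finset.sum_const, Finset.card_univ, nsmul_eq_mul,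
      ← Nat.card_eq_fintype_card, card_leftSet hW, Finset.sum_ite_eq', Finset.mem_univ, if_true]
  have hBs : ∑ j : rightSet W₁ W₂, (a j : ℂ) = (Nat.card W₂ : ℂ) * s + (1 - s) := by
    simp only [hB, Finset.sum_add_distrib, Finset.sum_const, Finset.card_univ, nsmul_eq_mul,
      ← Nat.card_eq_fintype_card, card_rightSet hW, Finset.sum_ite_eq', Finset.mem_univ, if_true]
  set q : ℤ := (Nat.card W₁ : ℤ)
  set p : ℤ := (Nat.card W₂ : ℤ)
  refine ⟨p * (r * X + (1 - r)) + (q * r + (1 - r)) * Y - p * (q * r + (1 - r)) +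
    ((p * s + (1 - s)) * X + q * (s * Y + (1 - s)) - q * (p * s + (1 - s))) -
    (p * X + q * Y - q * p), ?_, ?_⟩
  · have hz : ∀ z : ℤ, Odd z → (z : ZMod 2) = 1 := fun z ⟨k, hk⟩ => by
      rw [hk]; push_cast; rw [show (2 : ZMod 2) = 0 from rfl, zero_mul, zero_add]
    rw [← Int.not_even_iff_odd, even_iff_two_dvd, ← Nat.cast_two,
      ← ZMod.intCast_zmod_eq_zero_iff_dvd]
    push_cast
    rw [hz r hro, hz s hso, hz X hX, hz Y hY, hz q ((Int.odd_coe_nat _).2 hqo),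
      hz p ((Int.odd_coe_nat _).2 hpo)]
    decide
  · have key : ∀ (i : leftSet W₁ W₂) (j : rightSet W₁ W₂),
        ((a (cellEquiv hW (i, j)) : ℂ) • η (cellEquiv hW (i, j))) g =
          ((a i : ℂ) * η i g + (a i : ℂ) * η j g - (a i : ℂ)) +
            ((a j : ℂ) * η i g + (a j : ℂ) * η j g - (a j : ℂ)) - (η i g + η j g - 1) := by
      intro i j
      rw [Pi.smul_apply, smul_eq_mul, cellEquiv_apply, eta_mul_apply hη i.2 j.2 hg,
        hgrid _ i.2 _ j.2, h1]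
      push_cast
      ring
    have inner : ∀ i : leftSet W₁ W₂,
        (∑ j : rightSet W₁ W₂, ((a (cellEquiv hW (i, j)) : ℂ) • η (cellEquiv hW (i, j))) g) =
          (p : ℂ) * ((a i : ℂ) * η i g) + (a i : ℂ) * Y - (p : ℂ) * (a i : ℂ) +
            (((p : ℂ) * s + (1 - s)) * η i g + ((s : ℂ) * Y + (1 - s)) - ((p : ℂ) * s + (1 - s))) -
            ((p : ℂ) * η i g + Y - (p : ℂ)) := by
      intro i
      simp only [key, Finset.sum_add_distrib, Finset.sum_sub_distrib, ← Finset.mul_sum,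
        ← Finset.sum_mul, hYs, hBη, hBs, Finset.sum_const, Finset.card_univ, nsmul_eq_mul,
        ← Nat.card_eq_fintype_card, card_rightSet hW, p, Int.cast_natCast]
      ring
    rw [Finset.sum_apply, ← (cellEquiv hW).sum_comp, Fintype.sum_prod_type]
    simp only [inner, Finset.sum_add_distrib, Finset.sum_sub_distrib, ← Finset.mul_sum,
      ← Finset.sum_mul, hXs, hAη, hAs, Finset.sum_const, Finset.card_univ, nsmul_eq_mul,
      ← Nat.card_eq_fintype_card, card_leftSet hW, p, q]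
    push_cast
    ring

variable [Fintype L] {τ₁ : (↥L → ℂ) → G → ℂ} {lam : ↥L → ℂ}

theorem tauI_eq_zero (α : ↥L → ℂ) {g : G} (hg : g ∉ tildeOf L (typeA L)) : tauI L α g = 0 :=
  Dade.apply_eq_zero fun a ha x u hu e => hg ⟨a, ha, u, hu, x⁻¹, by rw [← e]; group⟩

open Classical in
/-- The part of the norm of `τ₁ λ` seen on `Ã(L)`. -/
theorem norm_on_tilde (c : LCtx L τ₁ lam) :
    (((∑ φ ∈ memI L, wI L φ ^ 2 : ℕ) : ℝ) - 1) * (Nat.card G : ℝ) ≤
      (((∑ φ ∈ memI L, wI L φ ^ 2 : ℕ) : ℝ)) *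
        ∑ g ∈ Finset.univ.filter (fun g => g ∈ tildeOf L (typeA L)), ‖τ₁ lam g‖ ^ 2 := by
  set W : ℕ := ∑ φ ∈ memI L, wI L φ ^ 2 with hW
  set T := Finset.univ.filter (fun g : G => g ∈ tildeOf L (typeA L))
  have hl : lam ∈ memI L := c.mem.2 c.lam_mem
  have hW1 : 1 ≤ W := by
    calc 1 = wI L lam ^ 2 := by rw [c.lam_deg, one_pow]
      _ ≤ W := Finset.single_le_sum (fun φ _ => Nat.zero_le (wI L φ ^ 2)) hl
  have hT0 : (0 : ℝ) ≤ ∑ g ∈ T, ‖τ₁ lam g‖ ^ 2 := Finset.sum_nonneg fun _ _ => sq_nonneg _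
  rcases hW1.eq_or_lt with h | h
  · rw [← h, Nat.cast_one, sub_self, zero_mul, one_mul]
    exact hT0
  set α : ↥L → ℂ := (W : ℤ) • lam - ∑ φ ∈ memI L, (wI L φ : ℤ) • φ with hα
  have hαS : α ∈ zspan (famI L) := Submodule.sub_mem _ (Submodule.smul_mem _ _ (mem_zS c.lam_mem))
    (Submodule.sum_mem _ fun φ hφ => Submodule.smul_mem _ _ (mem_zS (c.mem.1 hφ)))
  have hα1 : α 1 = 0 := by
    have e : ∀ φ ∈ memI L, ((wI L φ : ℤ) • φ) 1 =
        (wI L φ : ℂ) ^ 2 * ((fittingHall L).index : ℂ) := fun φ hφ => by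
      rw [Pi.smul_apply, (degree_famI (c.mem.1 hφ)).2, zsmul_eq_mul, Int.cast_natCast]
      ring
    rw [hα, Pi.sub_apply, Pi.smul_apply, Finset.sum_apply, Finset.sum_congr rfl e,
      (degree_famI c.lam_mem).2, c.lam_deg, zsmul_eq_mul, Int.cast_natCast, ← Finset.sum_mul, hW]
    push_cast
    ring
  have hinner : ∀ ψ ∈ memI L,
      classInner α ψ = (if ψ = lam then (W : ℂ) else 0) - (wI L ψ : ℂ) := fun ψ hψ => by
    rw [hα, classInner_sub_left, Coherence.inner_smul_int_left, classInner_sum_left]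
    simp only [Coherence.inner_smul_int_left]
    rw [Finset.sum_congr rfl fun φ hφ => by
      rw [Coherence.irr_orth (fun _ h => c.irr h) (c.mem.1 hφ) (c.mem.1 hψ)],
      Coherence.irr_orth (fun _ h => c.irr h) c.lam_mem (c.mem.1 hψ)]
    by_cases e : ψ = lam
    · subst e
      simp [hψ]
    · simp [hψ, e, Ne.symm e]
  have hαl : classInner α lam = ((W : ℝ) - 1 : ℝ) := by
    rw [hinner lam hl, if_pos rfl, c.lam_deg]
    push_cast
    ring
  have hαα : classInner α α = ((W : ℝ) * ((W : ℝ) - 1) : ℝ) := by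
    rw [show classInner α α =
      classInner α ((W : ℤ) • lam - ∑ φ ∈ memI L, (wI L φ : ℤ) • φ) from rfl, classInner_sub_right,
      Coherence.inner_smul_int_right, classInner_sum_right, hαl,
      Finset.sum_congr rfl (g := fun φ => (wI L φ : ℂ) * (if φ = lam then (W : ℂ) else 0) -
        ((wI L φ ^ 2 : ℕ) : ℂ)) fun φ hφ => by
        rw [Coherence.inner_smul_int_right, hinner φ hφ, Int.cast_natCast]; push_cast; ring,
      Finset.sum_sub_distrib, ← Nat.cast_sum, ← hW]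
    simp only [mul_ite, mul_zero, Finset.sum_ite_eq', hl, if_true, c.lam_deg]
    push_cast
    ring
  set b := τ₁ α with hb
  have hbT : ∀ g, g ∉ T → b g = 0 := fun g hg => by
    rw [hb, c.agree α (mem_zspanOn_compl_one hαS hα1)]
    exact tauI_eq_zero α fun h' => hg (Finset.mem_filter.2 ⟨Finset.mem_univ _, h'⟩)
  have hnorm : ∑ g : G, ‖b g‖ ^ 2 = (Nat.card G : ℝ) * ((W : ℝ) * ((W : ℝ) - 1)) := by
    have e := (c.iso.2.2.1 α hαS α hαS).trans hαα
    rw [Coherence.self_eq] at e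
    rwa [Complex.ofReal_inj, inv_mul_eq_iff_eq_mul₀ (Nat.cast_ne_zero.2 Nat.card_pos.ne'),
      ← hb] at e
  have hbl : ∑ g ∈ T, b g * conj (τ₁ lam g) = (Nat.card G : ℂ) * ((W : ℝ) - 1 : ℝ) := by
    have e := (c.iso.2.2.1 α hαS lam (mem_zS c.lam_mem)).trans hαl
    rw [classInner_def, inv_mul_eq_iff_eq_mul₀ natCard_ne_zero, ← hb] at e
    rwa [← Finset.sum_subset (Finset.subset_univ T) fun g _ hg => by rw [hbT g hg, zero_mul]] at e
  have h1 : (Nat.card G : ℝ) * ((W : ℝ) - 1) ≤ ∑ g ∈ T, ‖b g‖ * ‖τ₁ lam g‖ := by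
    have hpos : (0 : ℝ) ≤ (Nat.card G : ℝ) * ((W : ℝ) - 1) := by
      refine mul_nonneg (Nat.cast_nonneg _) ?_
      have : (1 : ℝ) ≤ W := by exact_mod_cast hW1
      linarith
    calc (Nat.card G : ℝ) * ((W : ℝ) - 1)
        = ‖∑ g ∈ T, b g * conj (τ₁ lam g)‖ := by
          rw [hbl, ← Complex.ofReal_natCast, ← Complex.ofReal_mul, Complex.norm_of_nonneg hpos]
      _ ≤ ∑ g ∈ T, ‖b g * conj (τ₁ lam g)‖ := norm_sum_le _ _
      _ = _ := Finset.sum_congr rfl fun g _ => by rw [norm_mul, Complex.norm_conj]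
  have hN0 : (0 : ℝ) < Nat.card G := Nat.cast_pos.2 Nat.card_pos
  have hW' : (1 : ℝ) < W := by exact_mod_cast h
  have h2 : ((Nat.card G : ℝ) * ((W : ℝ) - 1)) ^ 2 ≤
      (Nat.card G : ℝ) * ((W : ℝ) * ((W : ℝ) - 1)) * ∑ g ∈ T, ‖τ₁ lam g‖ ^ 2 :=
    calc ((Nat.card G : ℝ) * ((W : ℝ) - 1)) ^ 2 ≤ (∑ g ∈ T, ‖b g‖ * ‖τ₁ lam g‖) ^ 2 :=
          pow_le_pow_left₀ (by nlinarith) h1 2
      _ ≤ (∑ g ∈ T, ‖b g‖ ^ 2) * ∑ g ∈ T, ‖τ₁ lam g‖ ^ 2 :=
          Finset.sum_mul_sq_le_sq_mul_sq _ _ _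
      _ ≤ _ := mul_le_mul_of_nonneg_right ((Finset.sum_le_sum_of_subset_of_nonneg
          (Finset.subset_univ T) fun _ _ _ => sq_nonneg _).trans hnorm.le) hT0
  refine le_of_mul_le_mul_left ?_ (mul_pos hN0 (sub_pos.2 hW'))
  linear_combination h2

variable {η : (↥(W₁ ⊔ W₂) →* ℂˣ) → G → ℂ}

/-- If `Y = Σ a η - τ₁ λ` with `r, s` odd then the weight of the family is small. -/
theorem count_exact (c : LCtx L τ₁ lam) (d : Duo S T W₁ W₂ U V η)
    [Fintype (↥(W₁ ⊔ W₂) →* ℂˣ)]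
    (hPc : Nat.card (fittingHallOf S) = Nat.card W₂ ^ Nat.card W₁)
    (hQc : Nat.card (fittingHallOf T) = Nat.card W₁ ^ Nat.card W₂)
    (hSfree : ∀ x ∈ fittingHallOf S, x ≠ 1 →
      ⁅S, S⁆ ⊓ centralizer ({x} : Set G) ≤ fittingHallOf S)
    (hTfree : ∀ x ∈ fittingHallOf T, x ≠ 1 →
      ⁅T, T⁆ ⊓ centralizer ({x} : Set G) ≤ fittingHallOf T)
    {a : (↥(W₁ ⊔ W₂) →* ℂˣ) → ℤ} (ha : ∀ ω, classInner (YI L lam) (η ω) = (a ω : ℂ))
    (h1 : a 1 = 1)
    (hgrid : ∀ i ∈ leftSet W₁ W₂, ∀ j ∈ rightSet W₁ W₂, a (i * j) = a i + a j - a 1) {r s : ℤ}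
    (hr : ∀ i ∈ leftSet W₁ W₂, i ≠ 1 → a i = r) (hs : ∀ j ∈ rightSet W₁ W₂, j ≠ 1 → a j = s)
    (hro : Odd r) (hso : Odd s)
    (hexact : YI L lam = (∑ ω, (a ω : ℂ) • η ω) - τ₁ lam) :
    ((∑ φ ∈ memI L, wI L φ ^ 2 : ℕ) : ℝ) *
      (((Nat.card W₂ : ℝ) + Nat.card W₁ - 3) / ((Nat.card W₂ : ℝ) * Nat.card W₁) -
        1 / ((Nat.card U : ℝ) * Nat.card W₁) - 1 / ((Nat.card V : ℝ) * Nat.card W₂)) ≤ 1 := by
  classical
  have hqo := odd_subgroup c.hG W₁
  have hpo := odd_subgroup c.hG W₂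
  set W : ℕ := ∑ φ ∈ memI L, wI L φ ^ 2 with hW
  set e := (fittingHall L).index with he
  set X : Set G := (↑(W₁ ⊔ W₂) : Set G) \ ((W₁ : Set G) ∪ W₂) with hX
  -- `e ≥ pq`
  have hy : classInner (YI L lam) (τ₁ lam) = ((-1 : ℤ) : ℂ) := by
    rw [hexact, classInner_sub_left, classInner_sum_left, (c.sirr c.lam_mem).inner_self]
    simp only [classInner_smul_left,
      Coherence.inner_comm_zero (c.inner_eta d.hS d.hSP d.hη c.lam_mem _), mul_zero,
      Finset.sum_const_zero, zero_sub, Int.cast_neg, Int.cast_one]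
  have hepq : (Nat.card W₂ : ℝ) * Nat.card W₁ ≤ (e : ℝ) := by
    have hb := (c.budget d ha h1 hgrid hr hs hy (∅ : Finset Unit) (fun _ => 0) (fun _ => 1)
      (by simp) (by simp) (by simp) (by simp) (u := fun _ => 0) (by simp)).1
    rw [Finset.sum_empty, add_zero] at hb
    have h2 : eSq (Nat.card W₁) (Nat.card W₂) r s + 1 ≤ (e : ℤ) + 1 := by
      have : eSq (Nat.card W₁) (Nat.card W₂) r s + (-1 : ℤ) ^ 2 + ((W : ℤ) - 1) * (-1 + 1) ^ 2 ≤
          (e : ℤ) + 1 := by exact_mod_cast hb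
      linarith
    have h3 : ∀ z : ℤ, Odd z → 1 ≤ z ^ 2 := fun z ⟨k, hk⟩ => by
      have : z ≠ 0 := by omega
      linarith [sq_pos_of_ne_zero this]
    have h4 : ((Nat.card W₂ : ℤ) * Nat.card W₁) ≤ eSq (Nat.card W₁) (Nat.card W₂) r s := by
      have hq1 : (1 : ℤ) ≤ Nat.card W₁ := by exact_mod_cast (Nat.card_pos : 0 < Nat.card W₁)
      have hp1 : (1 : ℤ) ≤ Nat.card W₂ := by exact_mod_cast (Nat.card_pos : 0 < Nat.card W₂)
      have hrs : Odd (r + s - 1) := (hro.add_odd hso).sub_odd odd_one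
      have e1 := mul_le_mul_of_nonneg_left (h3 r hro) (sub_nonneg.2 hq1)
      have e2 := mul_le_mul_of_nonneg_left (h3 s hso) (sub_nonneg.2 hp1)
      have e3 := mul_le_mul_of_nonneg_left (h3 _ hrs)
        (mul_nonneg (sub_nonneg.2 hq1) (sub_nonneg.2 hp1))
      rw [eSq]
      nlinarith [e1, e2, e3]
    exact_mod_cast h4.trans (by linarith : eSq (Nat.card W₁) (Nat.card W₂) r s ≤ (e : ℤ))
  -- outside the small sets `τ₁ λ` is an odd integer
  set E₁ := conjUnion ((fittingHallOf S : Set G) \ {1}) with hE₁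
  set E₂ := conjUnion ((fittingHallOf T : Set G) \ {1}) with hE₂
  set EV := conjUnion X with hEV
  set Tl := tildeOf L (typeA L) with hTl
  set Ω : Finset G := Finset.univ.filter fun g => g ∉ ({1} : Set G) ∪ E₁ ∪ E₂ ∪ EV ∪ Tl with hΩ
  have hodd : ∀ g ∈ Ω, 1 ≤ ‖τ₁ lam g‖ ^ 2 := by
    intro g hg
    simp only [hΩ, Finset.mem_filter, Finset.mem_univ, true_and, Set.mem_union, not_or] at hg
    obtain ⟨⟨⟨⟨-, hg1⟩, hg2⟩, hgV⟩, hgT⟩ := hg
    have hoff : ∀ x : G, x * g * x⁻¹ ∈ W₁ ⊔ W₂ → x * g * x⁻¹ ∈ W₁ ∨ x * g * x⁻¹ ∈ W₂ :=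
      fun x hx => by_contra fun h => hgV ⟨x, hx, h⟩
    have hpg : ¬ Nat.card W₂ ∣ orderOf g := fun h => by
      rcases conj_of_dvd c.hG d.hS d.hSP d.hp d.hq hPc hSfree h with h' | h'
      exacts [hg1 h', hgV h']
    have hqg : ¬ Nat.card W₁ ∣ orderOf g := fun h => by
      rcases conj_of_dvd c.hG d.hT d.hTP d.hq d.hp hQc hTfree h with h' | ⟨x, hx, hx'⟩
      · exact hg2 h'
      · exact hgV ⟨x, sup_comm W₂ W₁ ▸ hx, fun h'' => hx' h''.symm⟩
    obtain ⟨x, hxo, hxe⟩ := oddSum W₁ W₂ d.hW d.odd_W η d.hη g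
      (d.hq.coprime_iff_not_dvd.2 hqg).symm
    obtain ⟨y, hyo, hye⟩ := oddSum W₂ W₁ d.swap.hW d.swap.odd_W _ d.swap.hη g
      (d.hp.coprime_iff_not_dvd.2 hpg).symm
    obtain ⟨n, hn, hne⟩ := odd_eta_part d.hW d.hη h1 hgrid hr hs hro hso hqo hpo hoff hxo hyo hxe hye
    have hY0 : YI L lam g = 0 := tauI_eq_zero _ hgT
    have hv : τ₁ lam g = (n : ℂ) := by
      have := congrFun hexact g
      rw [hY0, Pi.sub_apply, hne] at this
      exact (sub_eq_zero.1 this.symm).symm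
    rw [hv, Complex.norm_intCast, sq_abs]
    obtain ⟨k, hk⟩ := hn
    have : (1 : ℤ) ≤ n ^ 2 := by
      have : n ≠ 0 := by omega
      linarith [sq_pos_of_ne_zero this]
    exact_mod_cast this
  -- the norm
  set T' := Finset.univ.filter (fun g : G => g ∈ Tl) with hT'
  have htot : ∑ g ∈ T', ‖τ₁ lam g‖ ^ 2 + (Ω.card : ℝ) ≤ (Nat.card G : ℝ) := by
    have e1 := (c.sirr c.lam_mem).inner_self
    rw [Coherence.self_eq, ← Complex.ofReal_one, Complex.ofReal_inj,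
      inv_mul_eq_iff_eq_mul₀ (Nat.cast_ne_zero.2 Nat.card_pos.ne'), mul_one] at e1
    refine le_of_le_of_eq ?_ e1
    have hd : Disjoint T' Ω := by
      rw [Finset.disjoint_left]
      intro g h h'
      rw [hΩ, Finset.mem_filter] at h'
      exact h'.2 (Or.inr (Finset.mem_filter.1 h).2)
    calc ∑ g ∈ T', ‖τ₁ lam g‖ ^ 2 + (Ω.card : ℝ)
        ≤ ∑ g ∈ T', ‖τ₁ lam g‖ ^ 2 + ∑ g ∈ Ω, ‖τ₁ lam g‖ ^ 2 := by
          refine add_le_add le_rfl ?_
          rw [← nsmul_one, ← Finset.sum_const]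
          exact Finset.sum_le_sum hodd
      _ = ∑ g ∈ T' ∪ Ω, ‖τ₁ lam g‖ ^ 2 := (Finset.sum_union hd).symm
      _ ≤ _ := Finset.sum_le_sum_of_subset_of_nonneg (Finset.subset_univ _) fun _ _ _ => sq_nonneg _
  have hcov : (Nat.card G : ℝ) ≤
      (Ω.card : ℝ) + 1 + E₁.ncard + E₂.ncard + EV.ncard + Tl.ncard := by
    have h2 : Nat.card G ≤ Ω.card + (({1} : Set G) ∪ E₁ ∪ E₂ ∪ EV ∪ Tl).ncard := by
      rw [← Set.ncard_coe_finset, ← Set.ncard_univ]
      refine (Set.ncard_le_ncard (fun g _ => ?_) (Set.toFinite _)).trans (Set.ncard_union_le _ _)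
      by_cases hg : g ∈ ({1} : Set G) ∪ E₁ ∪ E₂ ∪ EV ∪ Tl
      · exact Or.inr hg
      · exact Or.inl (Finset.mem_coe.2 (Finset.mem_filter.2 ⟨Finset.mem_univ _, hg⟩))
    have h3 : (({1} : Set G) ∪ E₁ ∪ E₂ ∪ EV ∪ Tl).ncard ≤
        1 + E₁.ncard + E₂.ncard + EV.ncard + Tl.ncard := by
      have u1 := Set.ncard_union_le ({1} : Set G) E₁
      have u2 := Set.ncard_union_le (({1} : Set G) ∪ E₁) E₂
      have u3 := Set.ncard_union_le (({1} : Set G) ∪ E₁ ∪ E₂) EV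
      have u4 := Set.ncard_union_le (({1} : Set G) ∪ E₁ ∪ E₂ ∪ EV) Tl
      rw [Set.ncard_singleton] at u1
      omega
    have h4 : Nat.card G ≤ Ω.card + 1 + E₁.ncard + E₂.ncard + EV.ncard + Tl.ncard := by omega
    exact_mod_cast h4
  -- the measures
  set N : ℝ := (Nat.card G : ℝ) with hN
  have hN0 : 0 < N := Nat.cast_pos.2 Nat.card_pos
  have hm1 : (E₁.ncard : ℝ) / N ≤ _ := measure_kernel d.hSP
  have hm2 : (E₂.ncard : ℝ) / N ≤ _ := measure_kernel d.hTP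
  have hm3 : (EV.ncard : ℝ) / N ≤ _ := measure_W d.hSP
  set p : ℝ := (Nat.card W₂ : ℝ) with hp
  set q : ℝ := (Nat.card W₁ : ℝ) with hq
  have hp0 : 0 < p := Nat.cast_pos.2 Nat.card_pos
  have hq0 : 0 < q := Nat.cast_pos.2 Nat.card_pos
  have hm4 : (Tl.ncard : ℝ) / N ≤ 1 / (p * q) := by
    have h2 : (Tl.ncard : ℝ) * Nat.card L = ((typeA L).ncard : ℝ) * N := by
      rw [hTl, hN]
      exact_mod_cast measure c.hG L (typeA L) c.hL (Or.inr (Or.inl rfl))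
    have hf : Nat.card (fittingHall L) = Nat.card (sigmaCore L) := by
      rw [TypeOne.Gap.fittingHall_eq c.hG c.hL c.hκ,
        Nat.card_congr (subgroupOfEquivOfLe (Sigma.sigmaCore_le L)).toEquiv]
    have h3 : (Nat.card L : ℝ) = (Nat.card (fittingHall L) : ℝ) * (e : ℝ) := by
      rw [he]
      exact_mod_cast ((fittingHall L).card_mul_index).symm
    rw [typeA_eq_core c.hG c.hL c.hκ, ncard_sdiff_one, ← hf, h3] at h2
    have hh0 : (0 : ℝ) < Nat.card (fittingHall L) := Nat.cast_pos.2 Nat.card_pos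
    have h5 : (Tl.ncard : ℝ) * (p * q) ≤ (Tl.ncard : ℝ) * (e : ℝ) :=
      mul_le_mul_of_nonneg_left hepq (Nat.cast_nonneg _)
    rw [div_le_div_iff₀ hN0 (mul_pos hp0 hq0), one_mul]
    refine le_of_mul_le_mul_left ?_ hh0
    nlinarith [mul_le_mul_of_nonneg_left h5 hh0.le]
  have hm5 : 1 / N ≤ 1 / (Nat.card S : ℝ) :=
    one_div_le_one_div_of_le (Nat.cast_pos.2 Nat.card_pos)
      (Nat.cast_le.2 (Nat.le_of_dvd Nat.card_pos (card_subgroup_dvd_card S)))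
  have hm6 : (0 : ℝ) ≤ 1 / (Nat.card T : ℝ) := by positivity
  set A : ℝ := (p + q - 3) / (p * q) - 1 / ((Nat.card U : ℝ) * q) -
    1 / ((Nat.card V : ℝ) * p) with hA
  have hΩA : A * N ≤ (Ω.card : ℝ) := by
    rw [← le_div_iff₀ hN0]
    have h2 : N / N ≤ ((Ω.card : ℝ) + 1 + E₁.ncard + E₂.ncard + EV.ncard + Tl.ncard) / N :=
      div_le_div_of_nonneg_right hcov hN0.le
    rw [div_self hN0.ne', add_div, add_div, add_div, add_div, add_div] at h2
    have hid : 1 - (q - 1) * (p - 1) / (q * p) - 1 / (p * q) = (p + q - 2) / (p * q) := by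
      field_simp
      ring
    have hle : (p + q - 3) / (p * q) ≤ (p + q - 2) / (p * q) :=
      div_le_div_of_nonneg_right (by linarith) (mul_pos hp0 hq0).le
    rw [hA]
    linarith
  have hnt : ((W : ℝ) - 1) * N ≤ (W : ℝ) * ∑ g ∈ T', ‖τ₁ lam g‖ ^ 2 := norm_on_tilde c
  have hW0 : (0 : ℝ) ≤ W := Nat.cast_nonneg _
  refine le_of_mul_le_mul_right ?_ hN0
  nlinarith [mul_le_mul_of_nonneg_left htot hW0, mul_le_mul_of_nonneg_left hΩA hW0, hnt]

end Cfsg.Agent.OddChar.TypeP.Exceptional
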