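import Cfsg.Agent.OddChar.TypeP.Exceptional.NonExceptional
import Cfsg.Agent.OddChar.TypeP.Exceptional.Count

/-!
# A conjugate of `W₂` normalises `U` (notes/ft/endgame.md, section 6 D)
-/

set_option autoImplicit false
set_option linter.unusedSectionVars false
set_option linter.style.haveILetI false

namespace Cfsg.Agent.OddChar.TypeP.Exceptional

open Cfsg Subgroup
open Cfsg.Agent.OddLocal
open Cfsg.Agent.Characters Cfsg.Agent.OddChar.Signed Cfsg.Agent.OddChar.Isometry
open Cfsg.Agent.OddChar.TypeP.Tools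

universe u

theorem sq_lt_two_pow {p q : ℕ} (hq : 3 ≤ q) (hqp : q + 2 ≤ p) : q * q < 2 * p ^ (q - 2) := by
  rcases Nat.lt_or_ge q 4 with h | h
  · obtain rfl : q = 3 := by omega
    norm_num
    omega
  · have h1 : p ^ 2 ≤ p ^ (q - 2) := Nat.pow_le_pow_right (by omega) (by omega)
    have h2 : q * q ≤ p ^ 2 := by rw [pow_two]; exact Nat.mul_le_mul (by omega) (by omega)
    have h3 : 0 < p ^ 2 := pow_pos (by omega) 2
    omega

theorem one_le_eSq {q p r t : ℤ} (hq : 1 ≤ q) (hp : 1 ≤ p) : 1 ≤ eSq q p r t := by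
  rw [eSq]
  nlinarith [mul_nonneg (show (0 : ℤ) ≤ q - 1 by omega) (sq_nonneg r),
    mul_nonneg (show (0 : ℤ) ≤ p - 1 by omega) (sq_nonneg t),
    mul_nonneg (mul_nonneg (show (0 : ℤ) ≤ q - 1 by omega) (show (0 : ℤ) ≤ p - 1 by omega))
      (sq_nonneg (r + t - 1))]

variable {G : Type u} [Group G] [Fintype G] {L L' S T W₁ W₂ U V : Subgroup G}
  {η : (↥(W₁ ⊔ W₂) →* ℂˣ) → G → ℂ}

/-- The weight of `L` is at most `[L' : L'_σ]` if `τ₁ λ` occurs in `Y'`. -/
theorem cross_weight [Fintype L] [Fintype L'] {τ₁ : (↥L → ℂ) → G → ℂ} {lam : ↥L → ℂ}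
    {τ' : (↥L' → ℂ) → G → ℂ} {lam' : ↥L' → ℂ} (c : LCtx L τ₁ lam) (c' : LCtx L' τ' lam')
    (d : Duo S T W₁ W₂ U V η) {a : (↥(W₁ ⊔ W₂) →* ℂˣ) → ℤ} {r t : ℤ} (y : YCoef L' lam' η a r t)
    (horth : ∀ φ ∈ famI L, ∀ ψ ∈ famI L', classInner (τ' ψ) (τ₁ φ) = 0) {k : ℤ} (hk : k ≠ 0)
    (hco : ∀ φ ∈ famI L, classInner (YI L' lam') (τ₁ φ) = ((wI L φ * k : ℤ) : ℂ)) :
    wt L ≤ (fittingHall L').index := by
  classical
  have hb := budget_int c' d y (memI L) τ₁
    (fun i hi l hl => c.inner_images (c.mem.1 hi) (c.mem.1 hl))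
    (fun i hi ω => Coherence.inner_comm_zero (c.inner_eta d.hS d.hSP d.hη (c.mem.1 hi) ω))
    (fun i hi φ hφ => horth i (c.mem.1 hi) φ hφ)
    (u := fun φ => (wI L φ : ℤ) * k) (fun i hi => hco i (c.mem.1 hi))
  have h1 : 1 ≤ k ^ 2 := Int.add_one_le_of_lt (pow_two_pos_of_ne_zero hk)
  have h2 : (wt L : ℤ) ≤ ∑ φ ∈ memI L, ((wI L φ : ℤ) * k) ^ 2 := by
    push_cast
    exact Finset.sum_le_sum fun φ _ => by
      rw [mul_pow]; exact le_mul_of_one_le_right (sq_nonneg _) h1
  have h3 := one_le_eSq (r := r) (t := t) (q := (Nat.card W₁ : ℤ)) (p := (Nat.card W₂ : ℤ))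
    (by exact_mod_cast d.hq.one_lt.le) (by exact_mod_cast d.hp.one_lt.le)
  exact_mod_cast show (wt L : ℤ) ≤ ((fittingHall L').index : ℤ) by linarith

set_option maxHeartbeats 2000000 in
theorem normalizes_of_lt (h3 : TypeThreeStatement.{u}) (h3c : TypeThreeColumnStatement.{u})
    (hC : CentralizerStatement.{u}) (hG : IsMinSimpleOddOrder G)
    (h : PairData S T W₁ W₂ U V) (hqp : Nat.card W₁ < Nat.card W₂) :
    ∃ y ∈ fittingHallOf T, W₂.map (MulAut.conj y).toMonoidHom ≤ normalizer (U : Set G) := by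
  classical
  haveI : Fintype S := Fintype.ofFinite _
  haveI : Fintype T := Fintype.ofFinite _
  obtain ⟨s, sT⟩ := sides h3 hC hG h
  have hSex : IsExceptional W₁ U W₂ := exceptional_of_lt h3 h3c hC hG h hqp
  set q := Nat.card W₁ with hq
  set p := Nat.card W₂ with hp
  set u := Nat.card U with hu
  set v := Nat.card V with hv
  have hq3 : 3 ≤ q := s.q_three
  have hp3 : 3 ≤ p := s.p_three
  have hp2 : q + 2 ≤ p := by
    have h1 := Nat.odd_iff.1 (s.odd_card W₁)
    have h2 := Nat.odd_iff.1 (s.odd_card W₂)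
    omega
  obtain ⟨η, d⟩ := exists_duo s h
  obtain ⟨j, hj, hj1⟩ := exists_right_ne_one h.hSP
  obtain ⟨i, hi, hi1⟩ := exists_left_ne_one (W₁ := W₁) h.hTP
  have hue : u * (p - 1) + 1 = p ^ q := (Side.exceptional_iff s.hp.pos).1 hSex
  have hSII : IsOfTypeII S := s.types.resolve_right fun e => by
    have := (h3 hG S W₁ U W₂ h.hS h.hSP (Or.inl e)).2.1
    omega
  obtain ⟨L, o⟩ := exists_over h hG s hSII
  haveI : Fintype L := Fintype.ofFinite _
  obtain ⟨τ₁, lam, c⟩ := exists_lctx hG o.hL o.kappa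
  obtain ⟨a, r, t, y⟩ := exists_ycoef c d
  obtain ⟨z, hz, hzle, hidx⟩ := over_pq o h s sT c d hqp
  refine ⟨z, hz, ?_⟩
  by_contra hnot
  have hne : U ≠ sigmaCore L := fun e => hnot (conj_le_normalizer_of_eq hzle e)
  have hcyc : ¬ IsCyclic (sigmaCore L) := fun hc => hnot (conj_le_normalizer_of_cyclic o hzle hc)
  have hWh := LCtx.card_core c
  rw [hidx, ← hq, ← hp] at hWh
  set W := wt L with hW
  -- `|L_σ| = u m` with `m ≥ 2 p q + 1`
  obtain ⟨m, hm⟩ := card_dvd_of_le o.U_le
  rw [← hu] at hm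
  have hum : q * p * W + 1 = u * m := hWh.trans hm
  have hup : u % p = 1 := geom_mod (by omega) (by omega) hue
  have huq : u % q = 1 := card_U_mod o h s
  have hmp : m % p = 1 := by
    have e3 : (u * m) % p = 1 := by
      rw [← hum, show q * p * W + 1 = p * (q * W) + 1 by ring, Nat.mul_add_mod,
        Nat.one_mod_eq_one.2 (by omega)]
    rwa [Nat.mul_mod, hup, one_mul, Nat.mod_mod] at e3
  have hmq : m % q = 1 := by
    have e3 : (u * m) % q = 1 := by
      rw [← hum, mul_assoc, Nat.mul_add_mod, Nat.one_mod_eq_one.2 (by omega)]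
    rwa [Nat.mul_mod, huq, one_mul, Nat.mod_mod] at e3
  have hmo : Odd m := (s.odd_card (sigmaCore L)).of_dvd_nat (hm ▸ dvd_mul_left m u)
  have hm1 : m ≠ 1 := fun e => hne (eq_of_le_of_card_ge o.U_le (by rw [hm, e, mul_one]))
  have hm2 : 2 * (p * q) + 1 ≤ m := by
    have hcop : Nat.Coprime p q := (Nat.coprime_primes s.hp s.hq).2 (by omega)
    have h2 : m ≡ 1 [MOD p * q] := (Nat.modEq_and_modEq_iff_modEq_mul hcop).1
      ⟨hmp.trans (Nat.one_mod_eq_one.2 (by omega)).symm,
        hmq.trans (Nat.one_mod_eq_one.2 (by omega)).symm⟩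
    obtain ⟨c', hc'⟩ := (Nat.modEq_iff_dvd' hmo.pos).1 h2.symm
    have hm0 := hmo.pos
    have hodd : Odd (p * q) := (s.odd_card W₂).mul (s.odd_card W₁)
    rcases c' with _ | _ | c'
    · rw [mul_zero] at hc'; omega
    · rw [zero_add, mul_one] at hc'
      have h1 := Nat.odd_iff.1 hodd
      have h3' := Nat.odd_iff.1 hmo
      omega
    · have h5 : p * q * 2 ≤ p * q * (c' + 1 + 1) := Nat.mul_le_mul_left _ (by omega)
      omega
  have hupp : p * p ≤ u := by
    refine le_trans ?_ (Arith.base_le (by omega) (by omega) hue)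
    rw [← pow_two]
    exact Nat.pow_le_pow_right (by omega) (by omega)
  have hu1 : 1 ≤ u := Nat.card_pos
  have hWu : 2 * u ≤ W := by
    have h1 : q * p * (2 * u) + u ≤ q * p * W + 1 := by
      rw [hum]
      calc q * p * (2 * u) + u = u * (2 * (p * q) + 1) := by ring
        _ ≤ u * m := Nat.mul_le_mul_left _ hm2
    by_contra hlt
    push Not at hlt
    have h2 : q * p * (W + 1) ≤ q * p * (2 * u) := Nat.mul_le_mul_left _ hlt
    have h4 : 3 * 3 ≤ q * p := Nat.mul_le_mul hq3 hp3
    rw [Nat.mul_succ] at h2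
    omega
  have hsmall : ¬ q * p * W ≤ p * (u - 1) := fun hle => by
    have h1 : u * p + u ≤ u * m := by
      rw [← Nat.mul_succ]
      refine Nat.mul_le_mul_left _ ?_
      have : p ≤ p * q := Nat.le_mul_of_pos_right _ (by omega)
      omega
    have h2 : p * (u - 1) ≤ u * p := by rw [mul_comm u]; exact Nat.mul_le_mul_left _ (by omega)
    have h4 : 3 * 3 ≤ p * p := Nat.mul_le_mul hp3 hp3
    omega
  rcases Int.even_or_odd t with hte | hto
  · have hg : q * W + 1 ≤ u := gamma_bound c d s hj hj1 (by rw [y.ha, y.hs j hj hj1]) hte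
    refine hsmall ?_
    calc q * p * W = p * (q * W) := by ring
      _ ≤ p * (u - 1) := Nat.mul_le_mul_left _ (by omega)
  rcases Int.even_or_odd r with hre | hro
  · -- `r` even
    have hg : p * W + 1 ≤ v := by
      refine gamma_bound c d.swap sT (j := swapDual i) (swapDual_mem_rightSet.2 hi)
        (fun e => hi1 (swapDual_injective (e.trans swapDual_one.symm))) ?_ hre
      show classInner (YI L lam) (η (swapDual (swapDual i))) = _
      rw [swapDual_swapDual, y.ha, y.hr i hi hi1]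
    have hgq : q * p * W ≤ q * (v - 1) := by
      rw [mul_assoc]; exact Nat.mul_le_mul_left _ (by omega)
    have hTII : IsOfTypeII T := sT.types.resolve_right fun e =>
      hsmall (hgq.trans (typeThree_bound h3c d s sT e))
    have hbig : ¬ q * p * W ≤ q * (p * q * (p * q)) := fun hle => by
      have h1 := sq_lt_two_pow hq3 hp2
      have h2 : q * p * (2 * p ^ (q - 1)) ≤ q * p * W := Nat.mul_le_mul_left _
        (le_trans (Nat.mul_le_mul_left _ (Arith.base_le (by omega) (by omega) hue)) hWu)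
      have e : p ^ (q - 1) = p ^ (q - 2) * p := by
        rw [← pow_succ]; congr 1; omega
      rw [e] at h2
      have h3' : q * (p * p) * (2 * p ^ (q - 2)) ≤ q * (p * p) * (q * q) := by
        calc q * (p * p) * (2 * p ^ (q - 2)) = q * p * (2 * (p ^ (q - 2) * p)) := by ring
          _ ≤ q * (p * q * (p * q)) := h2.trans hle
          _ = q * (p * p) * (q * q) := by ring
      exact absurd (Nat.le_of_mul_le_mul_left h3' (by positivity)) (not_le.2 h1)
    obtain ⟨L', o'⟩ := exists_over h.symm hG sT hTII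
    haveI : Fintype L' := Fintype.ofFinite _
    obtain ⟨τ', lam', c'⟩ := exists_lctx hG o'.hL o'.kappa
    obtain ⟨a', r', t', y'⟩ := exists_ycoef c' d
    have hW'h : (fittingHall L').index * wt L' + 1 = Nat.card (sigmaCore L') := LCtx.card_core c'
    have he' : (fittingHall L').index ≤ p * q := by
      rcases over_cases o' h.symm s with ⟨-, e⟩ | ⟨_, -, -, -, e⟩ <;> rw [e]
      exact Nat.le_mul_of_pos_right _ s.hq.pos
    by_cases hcj : ∃ g : G, L = L'.map (MulAut.conj g).toMonoidHom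
    · obtain ⟨g, hgL⟩ := hcj
      have hσ : sigmaCore L = (sigmaCore L').map (MulAut.conj g).toMonoidHom := by
        rw [hgL, SigmaParts.sigmaCore_map]
      have hcard : Nat.card (sigmaCore L') = u * m := by
        rw [← hm, hσ, Transfer.Fusion.card_map_conj]
      obtain ⟨m', hm'⟩ := card_dvd_of_le o'.U_le
      rw [← hv] at hm'
      have hvm : u * m = v * m' := hcard.symm.trans hm'
      have hvp : v % p = 1 :=
        mod_one o' hG o'.U_le (o'.W₁_le_compl h.symm) h.hTP.U_normal s.hp.one_lt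
      have hm'p : m' % p = 1 := by
        have e3 : (v * m') % p = 1 := by
          rw [← hvm, Nat.mul_mod, hup, hmp, one_mul, Nat.one_mod_eq_one.2 (by omega)]
        rwa [Nat.mul_mod, hvp, one_mul, Nat.mod_mod] at e3
      have hm'q : m' < q := by
        by_contra hge
        push Not at hge
        have h2 : v * q ≤ v * m' := Nat.mul_le_mul_left _ hge
        have h3' : q * (v - 1) + q = v * q := by
          rw [← Nat.mul_succ, show (v - 1).succ = v by omega, mul_comm]
        omega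
      rw [Nat.mod_eq_of_lt (by omega)] at hm'p
      subst hm'p
      have hσ' : sigmaCore L' = V := (eq_of_le_of_card_ge o'.U_le (by rw [hm', mul_one])).symm
      rcases sT.dichotomy with ⟨r₁, -, hgal⟩ | ⟨H₁, C₁, a₁, hsp⟩
      · refine hcyc ?_
        rw [hσ, hσ']
        exact (MulEquiv.isCyclic (V.equivMapOfInjective _ (MulAut.conj g).injective)).mp
          (sT.cyclic_of_galois hgal)
      · obtain ⟨hva, had, -, ha1, -⟩ := sT.split_facts hsp
        obtain ⟨l, hl, hlu⟩ := Nat.exists_prime_and_dvd (show u ≠ 1 by nlinarith)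
        have hlv : l ∣ v := hlu.trans ⟨m, by rw [hvm, mul_one]⟩
        have hlq : l ∣ q - 1 := (hl.dvd_of_dvd_pow (hlv.trans hva)).trans had
        have hlle := Nat.le_of_dvd (by omega) hlq
        rcases Arith.prime_dvd_cases s.hp s.hq hue hl hlu with e | e
        · omega
        · rw [Nat.mod_eq_of_lt (by omega)] at e
          exact hl.ne_one e
    push Not at hcj
    have hcj' : ∀ g : G, L' ≠ L.map (MulAut.conj g).toMonoidHom := fun g e => hcj g⁻¹ (by
      rw [e, Transfer.Fusion.map_conj_inv_cancel])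
    rcases c'.cross c hcj with ⟨k, hk, hco⟩ | ⟨k, hk, hco⟩
    · have hle := cross_weight c c' d y' (fun φ hφ ψ hψ => c'.inner_images' c hcj hψ hφ) hk hco
      refine hbig ((Nat.mul_le_mul_left _ (hle.trans he')).trans ?_)
      calc q * p * (p * q) = 1 * (p * q * (p * q)) := by ring
        _ ≤ q * (p * q * (p * q)) := Nat.mul_le_mul_right _ (by omega)
    · have hle := cross_weight c' c d y (fun φ hφ ψ hψ => c.inner_images' c' hcj' hψ hφ) hk hco
      rw [hidx, ← hq, ← hp, mul_comm q p] at hle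
      refine hbig (hgq.trans (Nat.mul_le_mul_left _ ?_))
      have hv' : v ≤ (fittingHall L').index * wt L' + 1 :=
        hW'h ▸ Nat.le_of_dvd Nat.card_pos (card_dvd_of_le o'.U_le)
      have := Nat.mul_le_mul he' hle
      omega
  -- both odd
  have hb := budget_le c d y
  rw [hidx, ← hq, ← hp] at hb
  push_cast at hb
  have he : eSq (q : ℤ) p r t = q * p := by
    rcases eSq_cases (by exact_mod_cast hq3) (by exact_mod_cast hp3)
      (show eSq (q : ℤ) p r t ≤ p * q by linarith) with ⟨-, -, he⟩ | ⟨hre, -⟩ | h0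
    · rw [he]; ring
    · exact absurd hro (Int.not_odd_iff_even.2 hre)
    · obtain ⟨k₁, hk₁⟩ := hro; obtain ⟨k₂, hk₂⟩ := hto; omega
  have hTex : IsExceptional W₂ V W₁ := by
    obtain ⟨τT, cT⟩ := sT.exists_sctx
    obtain ⟨μ', δ', hμ', hμd'⟩ := sT.exists_mu
    refine sT.exceptional_of_irrMem_empty (Finset.eq_empty_of_forall_notMem fun χ hχ => ?_)
    obtain ⟨hχ1, hχ2⟩ := mem_irrMem.1 hχ
    obtain ⟨x, hx⟩ := classInner_gen_int c.gen_Y (cT.iso.2.2.2 _ (mem_zS hχ1))
    have hb' := budget_int c d.swap y.swap ({χ} : Finset (↥T → ℂ)) τT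
      (fun k hk l hl => by
        rw [Finset.mem_singleton] at hk hl
        subst hk
        subst hl
        rw [(cT.sirr hχ1 hχ2).inner_self, if_pos rfl])
      (fun k hk ω => by
        rw [Finset.mem_singleton] at hk
        subst hk
        exact Coherence.inner_comm_zero (cT.inner_eta d.swap.hη hχ1 hχ2 ω))
      (fun k hk φ hφ => by
        rw [Finset.mem_singleton] at hk
        subst hk
        exact cT.inner_famI c hφ hχ1 hχ2)
      (u := fun _ => x) (fun k hk => by rw [Finset.mem_singleton] at hk; subst hk; exact hx)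
    rw [Finset.sum_singleton, hidx, ← hq, ← hp] at hb'
    push_cast at hb'
    have hsym : eSq (p : ℤ) q t r = eSq (q : ℤ) p r t := by rw [eSq, eSq]; ring
    have hx0 : x = 0 := sq_eq_zero_iff.1 (le_antisymm (by linarith) (sq_nonneg x))
    obtain ⟨j', hj', hj'1⟩ := exists_right_ne_one h.hTP
    obtain ⟨ε, hε, hr'⟩ := psi_rule c d.swap cT hμ' hj' hj'1 (hμd' j' hj' hj'1) y.swap.ha y.swap.h1
      y.swap.hr y.swap.hs hχ1 hχ2 (oDeg_spec h.hTP hχ1).2 hx
    rw [hx0, mul_zero] at hr'
    have ho := (oDeg_spec h.hTP hχ1).1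
    rcases mul_eq_zero.1 hr' with e | e
    · rcases hε with rfl | rfl <;> simp [ho.ne'] at e
    · obtain ⟨k₁, hk₁⟩ := hro
      obtain ⟨k₃, hk₃⟩ : Odd (p : ℤ) := (Int.odd_coe_nat _).2 (s.odd_card W₂)
      rw [← hp] at e
      rw [hk₃, show (2 * k₃ + 1 - 1) * (t + r - 1) = 2 * (k₃ * (t + r - 1)) by ring] at e
      omega
  have hve : v * (q - 1) + 1 = q ^ p := (Side.exceptional_iff s.hq.pos).1 hTex
  haveI : Fintype (↥(W₁ ⊔ W₂) →* ℂˣ) := Fintype.ofFinite _
  have hex := exact_Y c d y (show 3 ≤ wt L by nlinarith) (by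
    rw [hidx, ← hq, ← hp, he]; push_cast; ring)
  have hcount := count_exact c d s.card sT.card (s.free_of_exceptional hSex)
    (sT.free_of_exceptional hTex) y.ha y.h1 y.hgrid y.hr y.hs hro hto hex
  refine Arith.count_contra hq3 hqp hupp ?_ hWu hcount
  refine le_trans ?_ (Arith.base_le (by omega) (by omega) hve)
  exact Nat.le_self_pow (by omega) q

theorem normalizes_of_statements (h3 : TypeThreeStatement.{u})
    (h3c : TypeThreeColumnStatement.{u}) (hC : CentralizerStatement.{u}) :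
    NormalizesStatement.{u} := fun {G} _ _ hG _ _ _ _ _ _ h hqp =>
  haveI := Fintype.ofFinite G
  normalizes_of_lt h3 h3c hC hG h hqp

end Cfsg.Agent.OddChar.TypeP.Exceptional
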