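import Cfsg.Agent.OddChar.TypeP.Exceptional.Gamma

/-!
# `Y = τ(1_H^L - λ)` for the maximal subgroup over `N(U)`: the budget
-/

set_option autoImplicit false
set_option linter.unusedSectionVars false
set_option linter.style.haveILetI false

namespace Cfsg.Agent.OddChar.TypeP.Exceptional

open Cfsg Subgroup
open Cfsg.Agent.OddLocal
open Cfsg.Agent.Characters Cfsg.Agent.OddChar.Signed Cfsg.Agent.OddChar.Isometry
open Cfsg.Agent.OddChar.TypeP.Tools

universe u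

/-- The parities of `r, s` when `Σ a² ≤ p q`. -/
theorem eSq_cases {q p r s : ℤ} (hq : 3 ≤ q) (hp : 3 ≤ p)
    (h : eSq q p r s ≤ p * q) :
    (Odd r ∧ Odd s ∧ eSq q p r s = p * q) ∨ (Even r ∧ Even s) ∨ r + s - 1 = 0 := by
  rw [eSq] at h ⊢
  by_cases he : r + s - 1 = 0
  · exact Or.inr (Or.inr he)
  have h1 : 1 ≤ (r + s - 1) ^ 2 := Int.add_one_le_of_lt (pow_two_pos_of_ne_zero he)
  rcases Int.even_or_odd r with hr | hr <;> rcases Int.even_or_odd s with hs | hs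
  · exact Or.inr (Or.inl ⟨hr, hs⟩)
  · exfalso
    have h2 : 2 ≤ r + s - 1 ∨ r + s - 1 ≤ -2 := by
      obtain ⟨a, rfl⟩ := hr; obtain ⟨b, rfl⟩ := hs
      omega
    have h4 : 4 ≤ (r + s - 1) ^ 2 := by rcases h2 with h2 | h2 <;> nlinarith
    nlinarith [mul_le_mul_of_nonneg_left h4 (show (0 : ℤ) ≤ (q - 1) * (p - 1) by nlinarith),
      mul_nonneg (show (0 : ℤ) ≤ q - 1 by omega) (sq_nonneg r),
      mul_nonneg (show (0 : ℤ) ≤ p - 1 by omega) (sq_nonneg s),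
      mul_le_mul (show (2 : ℤ) ≤ q - 1 by omega) (show (2 : ℤ) ≤ p - 1 by omega) (by norm_num)
        (by omega)]
  · exfalso
    have h2 : 2 ≤ r + s - 1 ∨ r + s - 1 ≤ -2 := by
      obtain ⟨a, rfl⟩ := hr; obtain ⟨b, rfl⟩ := hs
      omega
    have h4 : 4 ≤ (r + s - 1) ^ 2 := by rcases h2 with h2 | h2 <;> nlinarith
    nlinarith [mul_le_mul_of_nonneg_left h4 (show (0 : ℤ) ≤ (q - 1) * (p - 1) by nlinarith),
      mul_nonneg (show (0 : ℤ) ≤ q - 1 by omega) (sq_nonneg r),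
      mul_nonneg (show (0 : ℤ) ≤ p - 1 by omega) (sq_nonneg s),
      mul_le_mul (show (2 : ℤ) ≤ q - 1 by omega) (show (2 : ℤ) ≤ p - 1 by omega) (by norm_num)
        (by omega)]
  · have hr1 : 1 ≤ r ^ 2 := Int.add_one_le_of_lt (pow_two_pos_of_ne_zero fun e => by
      rw [e] at hr; exact Int.not_odd_zero hr)
    have hs1 : 1 ≤ s ^ 2 := Int.add_one_le_of_lt (pow_two_pos_of_ne_zero fun e => by
      rw [e] at hs; exact Int.not_odd_zero hs)
    refine Or.inl ⟨hr, hs, le_antisymm h ?_⟩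
    nlinarith [mul_le_mul_of_nonneg_left hr1 (show (0 : ℤ) ≤ q - 1 by omega),
      mul_le_mul_of_nonneg_left hs1 (show (0 : ℤ) ≤ p - 1 by omega),
      mul_le_mul_of_nonneg_left h1 (show (0 : ℤ) ≤ (q - 1) * (p - 1) by nlinarith)]

/-- The two possibilities when `Σ a² ≤ p`. -/
theorem eSq_small {q p r s : ℤ} (hq : 3 ≤ q) (hqp : q < p) (h : eSq q p r s ≤ p) :
    (r = 1 ∧ s = 0 ∧ eSq q p r s = q) ∨ (r = 0 ∧ s = 1 ∧ eSq q p r s = p) := by
  rw [eSq] at h ⊢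
  have he : r + s - 1 = 0 := by
    by_contra he
    have h1 : 1 ≤ (r + s - 1) ^ 2 := Int.add_one_le_of_lt (pow_two_pos_of_ne_zero he)
    nlinarith [mul_le_mul_of_nonneg_left h1 (show (0 : ℤ) ≤ (q - 1) * (p - 1) by nlinarith),
      mul_nonneg (show (0 : ℤ) ≤ q - 1 by omega) (sq_nonneg r),
      mul_nonneg (show (0 : ℤ) ≤ p - 1 by omega) (sq_nonneg s)]
  obtain rfl : r = 1 - s := by omega
  rw [he] at h ⊢
  have hs : s ^ 2 ≤ 1 := by
    by_contra hlt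
    push Not at hlt
    nlinarith [mul_le_mul_of_nonneg_left (show (2 : ℤ) ≤ s ^ 2 by omega)
      (show (0 : ℤ) ≤ p - 1 by omega),
      mul_nonneg (show (0 : ℤ) ≤ q - 1 by omega) (sq_nonneg (1 - s))]
  have hsb : -1 ≤ s ∧ s ≤ 1 := ⟨by nlinarith, by nlinarith⟩
  obtain rfl | rfl | rfl : s = -1 ∨ s = 0 ∨ s = 1 := by omega
  · exfalso; nlinarith
  · exact Or.inl ⟨by norm_num, rfl, by ring⟩
  · exact Or.inr ⟨by norm_num, rfl, by ring⟩

theorem bracket_pos {W y : ℤ} (hW : 2 ≤ W) : 1 ≤ y ^ 2 + (W - 1) * (y + 1) ^ 2 := by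
  by_cases h : y + 1 = 0
  · rw [h, show y = -1 by omega]; norm_num
  · have h1 : 1 ≤ (y + 1) ^ 2 := Int.add_one_le_of_lt (pow_two_pos_of_ne_zero h)
    nlinarith [sq_nonneg y]

theorem bracket_eq {W y : ℤ} (hW : 3 ≤ W) (h : y ^ 2 + (W - 1) * (y + 1) ^ 2 ≤ 1) : y = -1 := by
  by_contra hy
  have h1 : 1 ≤ (y + 1) ^ 2 := Int.add_one_le_of_lt (pow_two_pos_of_ne_zero (by omega))
  nlinarith [sq_nonneg y]

variable {G : Type u} [Group G] [Fintype G] {L S T W₁ W₂ U V : Subgroup G}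
  {η : (↥(W₁ ⊔ W₂) →* ℂˣ) → G → ℂ}

theorem exists_duo {M : Subgroup G} (s : Side M W₁ U W₂) (h : PairData M T W₁ W₂ U V) :
    ∃ η, Duo M T W₁ W₂ U V η := by
  obtain ⟨η, hη⟩ := CyclicTI.exists_family s.hP.selfNormalizing (s.odd_card _)
  exact ⟨η, s.hG, h.hS, h.hT, h.hSP, h.hTP, s.hq, s.hp, hη⟩

theorem Side.partner {T W₂ V W₁ : Subgroup G} (s : Side T W₂ V W₁) : Partner T W₂ V W₁ :=
  ⟨s.hp, s.hq, s.ne, s.comm, s.el, s.card, s.cent⟩

/-- A maximal subgroup over `N(U)`, its family and the order of `L ∩ T`. -/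
theorem exists_over (h : PairData S T W₁ W₂ U V) (hG : IsMinSimpleOddOrder G) (s : Side S W₁ U W₂)
    (hII : IsOfTypeII S) : ∃ L, OverData S T W₁ U L := by
  have hne : normalizer (U : Set G) ≠ ⊤ := Transitivity.normalizer_ne_top hG s.ne
    fun e => h.hS.1 (top_le_iff.mp (e ▸ U_le_M h.hSP))
  obtain ⟨L, hL, hle⟩ := (eq_top_or_exists_le_coatom _).resolve_left hne
  exact ⟨L, h.over hG hII hL hle⟩

/-- The coefficients of `Y` on the family. -/
structure YCoef (L : Subgroup G) [Fintype L] (lam : ↥L → ℂ)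
    (η : (↥(W₁ ⊔ W₂) →* ℂˣ) → G → ℂ) (a : (↥(W₁ ⊔ W₂) →* ℂˣ) → ℤ) (r s : ℤ) : Prop where
  ha : ∀ ω, classInner (YI L lam) (η ω) = (a ω : ℂ)
  h1 : a 1 = 1
  hgrid : ∀ i ∈ leftSet W₁ W₂, ∀ j ∈ rightSet W₁ W₂, a (i * j) = a i + a j - a 1
  hr : ∀ i ∈ leftSet W₁ W₂, i ≠ 1 → a i = r
  hs : ∀ j ∈ rightSet W₁ W₂, j ≠ 1 → a j = s

variable [Fintype L] {τ₁ : (↥L → ℂ) → G → ℂ} {lam : ↥L → ℂ} {a : (↥(W₁ ⊔ W₂) →* ℂˣ) → ℤ} {r s : ℤ}

theorem YCoef.swap (y : YCoef L lam η a r s) :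
    YCoef (W₁ := W₂) (W₂ := W₁) L lam (fun ω => η (swapDual ω)) (fun ω => a (swapDual ω)) s r := by
  have hne : ∀ {i : ↥(W₂ ⊔ W₁) →* ℂˣ}, i ≠ 1 → swapDual i ≠ 1 := fun h e =>
    h (swapDual_injective (e.trans swapDual_one.symm))
  refine ⟨fun ω => y.ha _, by rw [swapDual_one]; exact y.h1, fun i hi j hj => ?_,
    fun i hi hi1 => y.hs _ (swapDual_mem_rightSet.2 hi) (hne hi1),
    fun j hj hj1 => y.hr _ (swapDual_mem_leftSet.2 hj) (hne hj1)⟩
  rw [swapDual_one, swapDual_mul]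
  have h := y.hgrid _ (swapDual_mem_leftSet.2 hj) _ (swapDual_mem_rightSet.2 hi)
  have hc : swapDual i * swapDual j = swapDual j * swapDual i :=
    MonoidHom.ext fun w => mul_comm _ _
  rw [hc, h]
  ring

theorem exists_ycoef (c : LCtx L τ₁ lam) (d : Duo S T W₁ W₂ U V η) :
    ∃ a r s, YCoef L lam η a r s := by
  obtain ⟨a, r, s, h1, h2, h3, h4, h5⟩ := c.exists_coef_Y d
  exact ⟨a, r, s, h1, h2, h3, h4, h5⟩

/-- The weight `(|L_F| - 1) / [L : L_F]`. -/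
noncomputable abbrev wt (L : Subgroup G) [Fintype L] : ℕ := ∑ φ ∈ memI L, wI L φ ^ 2

theorem LCtx.two_le_wt (c : LCtx L τ₁ lam) : 2 ≤ wt L := by
  classical
  have hne : Cfsg.conjFun lam ≠ lam := fun e => by
    have h := c.conj_orth c.lam_mem
    rw [e, classInner_isIrr_self (c.irr c.lam_mem)] at h
    exact one_ne_zero h
  have h := Finset.sum_le_sum_of_subset (f := fun φ => wI L φ ^ 2)
    (Finset.insert_subset (c.mem.2 (c.conj_mem c.lam_mem))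
      (Finset.singleton_subset_iff.2 (c.mem.2 c.lam_mem)) :
      ({Cfsg.conjFun lam, lam} : Finset (↥L → ℂ)) ⊆ memI L)
  rwa [Finset.sum_pair hne, c.wI_conj, c.lam_deg] at h

theorem LCtx.card_core (c : LCtx L τ₁ lam) :
    (fittingHall L).index * wt L + 1 = Nat.card (sigmaCore L) := by
  rw [sum_sq_wI c.hG c.hL c.hκ, TypeOne.Gap.fittingHall_eq c.hG c.hL c.hκ]
  exact Nat.card_congr (subgroupOfEquivOfLe (Sigma.sigmaCore_le L)).toEquiv

/-- Bessel for `Y` in integers. -/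
theorem budget_int (c : LCtx L τ₁ lam) (d : Duo S T W₁ W₂ U V η)
    (y : YCoef L lam η a r s) {ι : Type*} [DecidableEq ι] (t : Finset ι) (f : ι → G → ℂ)
    (horth : ∀ k ∈ t, ∀ l ∈ t, classInner (f k) (f l) = if k = l then 1 else 0)
    (hηf : ∀ k ∈ t, ∀ ω, classInner (η ω) (f k) = 0)
    (hLf : ∀ k ∈ t, ∀ φ ∈ famI L, classInner (τ₁ φ) (f k) = 0) {u : ι → ℤ}
    (hu : ∀ k ∈ t, classInner (YI L lam) (f k) = (u k : ℂ)) :
    eSq (Nat.card W₁) (Nat.card W₂) r s + ∑ k ∈ t, u k ^ 2 ≤ ((fittingHall L).index : ℤ) := by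
  classical
  haveI : Fintype (↥(W₁ ⊔ W₂) →* ℂˣ) := Fintype.ofFinite _
  obtain ⟨z, hz⟩ := classInner_gen_int c.gen_Y (c.iso.2.2.2 _ (mem_zS c.lam_mem))
  have h := (c.budget d y.ha y.h1 y.hgrid y.hr y.hs hz t f (fun _ => 1) (fun _ _ => one_pos)
    (fun k hk l hl => by rw [horth k hk l hl, Nat.cast_one]; congr 1) hηf hLf hu).1
  simp only [Nat.cast_one, div_one] at h
  have h' : eSq (Nat.card W₁) (Nat.card W₂) r s + z ^ 2 + ((wt L : ℤ) - 1) * (z + 1) ^ 2 +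
      ∑ k ∈ t, u k ^ 2 ≤ ((fittingHall L).index : ℤ) + 1 := by
    exact_mod_cast h
  have := bracket_pos (W := (wt L : ℤ)) (y := z) (by exact_mod_cast LCtx.two_le_wt c)
  linarith

theorem budget_le (c : LCtx L τ₁ lam) (d : Duo S T W₁ W₂ U V η) (y : YCoef L lam η a r s) :
    eSq (Nat.card W₁) (Nat.card W₂) r s ≤ ((fittingHall L).index : ℤ) := by
  have h := budget_int c d y (∅ : Finset Unit) (fun _ => 0) (by simp) (by simp) (by simp)
    (u := fun _ => 0) (by simp)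
  rwa [Finset.sum_empty, add_zero] at h

/-- With nothing left, `Y = Σ a η - τ₁ λ`. -/
theorem exact_Y (c : LCtx L τ₁ lam) (d : Duo S T W₁ W₂ U V η) (y : YCoef L lam η a r s)
    [Fintype (↥(W₁ ⊔ W₂) →* ℂˣ)] (hW : 3 ≤ wt L)
    (h : eSq (Nat.card W₁) (Nat.card W₂) r s = ((fittingHall L).index : ℤ)) :
    YI L lam = (∑ ω, (a ω : ℂ) • η ω) - τ₁ lam := by
  classical
  obtain ⟨z, hz⟩ := classInner_gen_int c.gen_Y (c.iso.2.2.2 _ (mem_zS c.lam_mem))
  obtain ⟨h1, h2⟩ := c.budget d y.ha y.h1 y.hgrid y.hr y.hs hz (∅ : Finset Unit) (fun _ => 0)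
    (fun _ => 1) (by simp) (by simp) (by simp) (by simp) (u := fun _ => 0) (by simp)
  rw [Finset.sum_empty, add_zero] at h1 h2
  have h' : eSq (Nat.card W₁) (Nat.card W₂) r s + z ^ 2 + ((wt L : ℤ) - 1) * (z + 1) ^ 2 ≤
      ((fittingHall L).index : ℤ) + 1 := by exact_mod_cast h1
  obtain rfl : z = -1 := bracket_eq (W := (wt L : ℤ)) (by exact_mod_cast hW) (by linarith)
  have hexp : ∀ φ ∈ memI L,
      ((if φ = lam then (-1 : ℤ) else wI L φ * (-1 + 1) : ℤ) : ℂ) • τ₁ φ =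
        if φ = lam then -τ₁ lam else 0 := fun φ _ => by
    split_ifs with e
    · rw [e, Int.cast_neg, Int.cast_one, neg_one_smul]
    · rw [neg_add_cancel, mul_zero, Int.cast_zero, zero_smul]
  rw [h2 (le_of_eq (by rw [h]; push_cast; ring)), Finset.sum_empty, add_zero,
    Finset.sum_congr rfl hexp, Finset.sum_ite_eq', if_pos (c.mem.2 c.lam_mem), sub_eq_add_neg]

/-- The cases for `[L : L_F]` and the first consequences. -/
theorem over_cases (o : OverData S T W₁ U L) (h : PairData S T W₁ W₂ U V)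
    (sT : Side T W₂ V W₁) :
    (L ⊓ T = W₁ ∧ (fittingHall L).index = Nat.card W₁) ∨
      ∃ y ∈ fittingHallOf T, W₂.map (MulAut.conj y).toMonoidHom ≤ L ⊓ T ∧
        L ⊓ T = W₁ ⊔ W₂.map (MulAut.conj y).toMonoidHom ∧
        (fittingHall L).index = Nat.card W₁ * Nat.card W₂ := by
  have hG := sT.hG
  have hidx : (fittingHall L).index = Nat.card ↥(L ⊓ T) := by
    rw [TypeOne.Gap.fittingHall_eq hG o.hL o.kappa]
    refine Nat.eq_of_mul_eq_mul_left (n := Nat.card ((sigmaCore L).subgroupOf L)) Nat.card_pos ?_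
    rw [card_mul_index, Nat.card_congr (subgroupOfEquivOfLe (Sigma.sigmaCore_le L)).toEquiv,
      mul_comm, ← Basics.card_eq_of_isCompl' o.compl.1 o.compl.2.1 o.compl.2.2.1 o.compl.2.2.2]
  rcases o.compl_cases hG h sT.partner with e | ⟨y, hy, e, hc⟩
  · exact Or.inl ⟨e, by rw [hidx, e]⟩
  · exact Or.inr ⟨y, hy, e ▸ le_sup_right, e, hidx.trans hc⟩

end Cfsg.Agent.OddChar.TypeP.Exceptional
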