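import Mathlib

/-!
# Arithmetic for the comparison of the two primes

`p` and `q` are odd primes with `q < p`; `u k (p - 1) + 1 = p ^ q` says that `u` has index `k` in
`(p ^ q - 1)/(p - 1)`.
-/

set_option autoImplicit false

namespace Cfsg.Agent.OddChar.TypeP.Exceptional.Arith

theorem succ_pow_mul_le {p k : ℕ} (hk : k ≤ p) :
    (p + 1) ^ k * p ^ 2 ≤ p ^ k * (p ^ 2 + k * p + k ^ 2) := by
  induction k with
  | zero => simp
  | succ k ih =>
    have h := ih (by omega)
    calc (p + 1) ^ (k + 1) * p ^ 2 = (p + 1) * ((p + 1) ^ k * p ^ 2) := by ring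
      _ ≤ (p + 1) * (p ^ k * (p ^ 2 + k * p + k ^ 2)) := Nat.mul_le_mul_left _ h
      _ = p ^ k * ((p + 1) * (p ^ 2 + k * p + k ^ 2)) := by ring
      _ ≤ p ^ k * (p * (p ^ 2 + (k + 1) * p + (k + 1) ^ 2)) := by
          refine Nat.mul_le_mul_left _ ?_
          nlinarith
      _ = p ^ (k + 1) * (p ^ 2 + (k + 1) * p + (k + 1) ^ 2) := by ring

theorem pow_le_pow_swap {p q : ℕ} (hq : 3 ≤ q) (h : q ≤ p) : p ^ q ≤ q ^ p := by
  induction p, h using Nat.le_induction with
  | base => rfl
  | succ p hp ih =>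
    have h1 := succ_pow_mul_le (p := p) (k := q) hp
    have h2 : (p + 1) ^ q ≤ q * p ^ q := by
      have hp0 : 0 < p ^ 2 := pow_pos (by omega) 2
      refine Nat.le_of_mul_le_mul_right ?_ hp0
      calc (p + 1) ^ q * p ^ 2 ≤ p ^ q * (p ^ 2 + q * p + q ^ 2) := h1
        _ ≤ p ^ q * (q * p ^ 2) := by
            refine Nat.mul_le_mul_left _ ?_
            nlinarith
        _ = q * p ^ q * p ^ 2 := by ring
    calc (p + 1) ^ q ≤ q * p ^ q := h2
      _ ≤ q * q ^ p := Nat.mul_le_mul_left _ ih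
      _ = q ^ (p + 1) := (pow_succ' q p).symm

/-- With the smaller prime the exceptional order is the larger one, even after scaling. -/
theorem not_le_of_exceptional {p q u v : ℕ} (hq : 3 ≤ q) (hqp : q < p)
    (hv : v * (q - 1) + 1 = q ^ p) (hu : q * u * (p - 1) + 1 ≤ p ^ q) :
    ¬ q * (v - 1) ≤ q * (p * (u - 1)) := by
  intro h
  obtain ⟨q', rfl⟩ : ∃ q', q = q' + 1 := ⟨q - 1, by omega⟩
  obtain ⟨p', rfl⟩ : ∃ p', p = p' + 1 := ⟨p - 1, by omega⟩
  simp only [Nat.add_sub_cancel] at hv hu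
  have h1 := pow_le_pow_swap hq hqp.le
  rw [← hv] at h1
  have hu' : (q' + 1) * u * p' ≤ v * q' := by omega
  rcases u with _ | u
  · simp only [Nat.zero_sub, mul_zero, nonpos_iff_eq_zero, mul_eq_zero,
      Nat.succ_ne_self, false_or, Nat.add_eq_zero_iff, one_ne_zero, and_false] at h
    have : v ≤ 1 := by omega
    have h3 : 3 ≤ q' + 1 := hq
    have h2 : (q' + 1) ^ 2 ≤ (q' + 1) ^ (p' + 1) := Nat.pow_le_pow_right (by omega) (by omega)
    nlinarith
  · simp only [Nat.add_sub_cancel] at h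
    have h' := Nat.le_of_mul_le_mul_left h (by omega)
    have h'' : v ≤ (p' + 1) * u + 1 := by omega
    -- `(p'+1) q' ≤ (q'+1) p'`
    have h4 : (p' + 1) * q' + (p' - q') ≤ (q' + 1) * p' := by
      have : q' ≤ p' := by omega
      nlinarith [Nat.sub_add_cancel this]
    have h5 : v * q' ≤ ((p' + 1) * u + 1) * q' := Nat.mul_le_mul_right _ h''
    nlinarith

/-- The prime divisors of `(p ^ q - 1)/(p - 1)`. -/
theorem prime_dvd_cases {p q M r : ℕ} (hp : p.Prime) (hq : q.Prime)
    (hM : M * (p - 1) + 1 = p ^ q) (hr : r.Prime) (hd : r ∣ M) : r = q ∨ r % q = 1 := by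
  haveI : Fact r.Prime := ⟨hr⟩
  haveI : Fact q.Prime := ⟨hq⟩
  have h1 : (p : ZMod r) ^ q = 1 := by
    rw [← Nat.cast_pow, ← hM, Nat.cast_add, Nat.cast_one,
      (ZMod.natCast_eq_zero_iff _ _).2 (hd.mul_right _), zero_add]
  by_cases h2 : (p : ZMod r) = 1
  · refine Or.inl ((Nat.prime_dvd_prime_iff_eq hr hq).1 ((ZMod.natCast_eq_zero_iff _ _).1 ?_))
    have hg : (∑ k ∈ Finset.range q, p ^ k) * (p - 1) + 1 = p ^ q := geom_sum_mul_of_one_le hp.one_lt.le q ▸ by
      have : 1 ≤ p ^ q := Nat.one_le_pow _ _ hp.pos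
      omega
    have hMs : M = ∑ k ∈ Finset.range q, p ^ k := by
      have := hp.one_lt
      exact Nat.eq_of_mul_eq_mul_right (by omega : 0 < p - 1) (by omega)
    have h0 : ((M : ℕ) : ZMod r) = 0 := (ZMod.natCast_eq_zero_iff _ _).2 hd
    rw [hMs, Nat.cast_sum] at h0
    simpa [Nat.cast_pow, h2] using h0
  · refine Or.inr ?_
    have hord : orderOf (p : ZMod r) = q := orderOf_eq_prime h1 h2
    have hdiv : q ∣ r - 1 := hord ▸ ZMod.orderOf_dvd_card_sub_one (by
      intro e; rw [e, zero_pow hq.ne_zero] at h1; exact zero_ne_one h1)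
    have h3 := (Nat.modEq_iff_dvd' hr.one_lt.le).2 hdiv
    rw [Nat.ModEq, Nat.one_mod_eq_one.2 hq.ne_one] at h3
    exact h3.symm

/-- A divisor free of `q` is `1` modulo `q`. -/
theorem dvd_mod_eq_one {p q M x : ℕ} (hp : p.Prime) (hq : q.Prime)
    (hM : M * (p - 1) + 1 = p ^ q) (hd : x ∣ M) (hqx : ¬ q ∣ x) : x % q = 1 := by
  induction x using Nat.recOnMul with
  | zero => exact absurd (dvd_zero q) hqx
  | one => exact Nat.one_mod_eq_one.2 hq.ne_one
  | prime r hr =>
    rcases prime_dvd_cases hp hq hM hr hd with rfl | h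
    · exact absurd dvd_rfl hqx
    · exact h
  | mul a b iha ihb =>
    rw [Nat.mul_mod, iha ((dvd_mul_right a b).trans hd) (fun h => hqx (h.mul_right b)),
      ihb ((dvd_mul_left b a).trans hd) (fun h => hqx (h.mul_left a)), one_mul,
      Nat.one_mod_eq_one.2 hq.ne_one]

/-- A proper odd cofactor is `0` or `1` modulo `q`; it is at least `q`. -/
theorem cofactor_cases {p q M k : ℕ} (hp : p.Prime) (hq : q.Prime) (hq3 : 3 ≤ q)
    (hM : M * (p - 1) + 1 = p ^ q) (hk : k ∣ M) (hodd : Odd k) (hk1 : k ≠ 1) :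
    q ∣ k ∨ 2 * q + 1 ≤ k := by
  by_cases h : q ∣ k
  · exact Or.inl h
  refine Or.inr ?_
  have h1 := dvd_mod_eq_one hp hq hM hk h
  have h2 := Nat.div_add_mod k q
  have hqo := Nat.odd_iff.1 (hq.odd_of_ne_two (by omega))
  have hko := Nat.odd_iff.1 hodd
  rcases hc : k / q with _ | _ | c
  · rw [hc, h1] at h2; omega
  · rw [hc, h1] at h2; omega
  · rw [hc, h1] at h2; nlinarith

theorem q_le_cofactor {p q M k : ℕ} (hp : p.Prime) (hq : q.Prime) (hq3 : 3 ≤ q)
    (hM : M * (p - 1) + 1 = p ^ q) (hk : k ∣ M) (hodd : Odd k) (hk1 : k ≠ 1) : q ≤ k := by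
  rcases cofactor_cases hp hq hq3 hM hk hodd hk1 with h | h
  · exact Nat.le_of_dvd hodd.pos h
  · omega

/-- A cofactor which is at most `q²` is not `1` modulo `p`. -/
theorem cofactor_mod_p {p q M k : ℕ} (hp : p.Prime) (hq : q.Prime) (hq3 : 3 ≤ q) (hqp : q < p)
    (hM : M * (p - 1) + 1 = p ^ q) (hk : k ∣ M) (hodd : Odd k) (hk1 : k ≠ 1) (hle : k ≤ q * q) :
    k % p ≠ 1 := by
  intro hkp
  have hpo := Nat.odd_iff.1 (hp.odd_of_ne_two (by omega))
  have hqo := Nat.odd_iff.1 (hq.odd_of_ne_two (by omega))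
  by_cases h : q ∣ k
  · obtain ⟨k', rfl⟩ := h
    have hk'le : k' ≤ q := Nat.le_of_mul_le_mul_left hle (by omega)
    by_cases h2 : q ∣ k'
    · have hk'q : k' = q := le_antisymm hk'le (Nat.le_of_dvd (Nat.pos_of_ne_zero fun e => by
        subst e; simp at hkp) h2)
      subst k'
      have hd : p ∣ (q + 1) * (q - 1) := by
        have : p ∣ q * q - 1 := (Nat.modEq_iff_dvd' (by nlinarith)).1
          (show 1 % p = q * q % p by rw [hkp, Nat.one_mod_eq_one.2 hp.ne_one])
        rwa [← Nat.mul_self_sub_mul_self_eq, one_mul]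
      rcases hp.dvd_mul.1 hd with h | h
      · have := Nat.le_of_dvd (by omega) h
        omega
      · have := Nat.le_of_dvd (by omega) h
        omega
    · have h3 := dvd_mod_eq_one hp hq hM ((dvd_mul_left k' q).trans hk) h2
      have hk'1 : k' = 1 := by
        rcases Nat.lt_or_ge k' q with h4 | h4
        · rwa [Nat.mod_eq_of_lt h4] at h3
        · have : k' = q := le_antisymm hk'le h4
          subst k'
          exact absurd dvd_rfl h2
      subst hk'1
      rw [mul_one, Nat.mod_eq_of_lt hqp] at hkp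
      omega
  · have h1 := dvd_mod_eq_one hp hq hM hk h
    have hcop : Nat.Coprime p q := (Nat.coprime_primes hp hq).2 hqp.ne'
    have h2 : k ≡ 1 [MOD p * q] := (Nat.modEq_and_modEq_iff_modEq_mul hcop).1
      ⟨hkp.trans (Nat.one_mod_eq_one.2 hp.ne_one).symm, h1.trans (Nat.one_mod_eq_one.2 hq.ne_one).symm⟩
    have h3 : p * q ∣ k - 1 := (Nat.modEq_iff_dvd' hodd.pos).1 h2.symm
    obtain ⟨c, hc⟩ := h3
    rcases c with _ | c
    · have := hodd.pos; omega
    · have h5 : p * q ≤ p * q * (c + 1) := Nat.le_mul_of_pos_right _ (by omega)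
      have h6 : q * q < p * q := Nat.mul_lt_mul_of_pos_right hqp (by omega)
      omega

/-- The bound `(p - 1)(k - 1) ≤ p q (q - 1)` gives `k ≤ q²`. -/
theorem cofactor_le {p q k : ℕ} (hq : 3 ≤ q) (hqp : q < p)
    (h : (p - 1) * (k - 1) ≤ p * q * (q - 1)) : k ≤ q * q := by
  by_contra hc
  push Not at hc
  have h1 : (p - 1) * (q * q) ≤ (p - 1) * (k - 1) := Nat.mul_le_mul_left _ (by omega)
  have h2 := h1.trans h
  obtain ⟨p', rfl⟩ : ∃ p', p = p' + 1 := ⟨p - 1, by omega⟩
  obtain ⟨q', rfl⟩ : ∃ q', q = q' + 1 := ⟨q - 1, by omega⟩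
  simp only [Nat.add_sub_cancel] at h2
  nlinarith

theorem base_le {p q M : ℕ} (hp : 2 ≤ p) (hq : 1 ≤ q) (hM : M * (p - 1) + 1 = p ^ q) :
    p ^ (q - 1) ≤ M := by
  obtain ⟨p', rfl⟩ : ∃ p', p = p' + 1 := ⟨p - 1, by omega⟩
  obtain ⟨q', rfl⟩ : ∃ q', q = q' + 1 := ⟨q - 1, by omega⟩
  simp only [Nat.add_sub_cancel, pow_succ] at hM ⊢
  by_contra hc
  push Not at hc
  have h1 : (M + 1) * p' ≤ (p' + 1) ^ q' * p' := Nat.mul_le_mul_right _ hc
  have h2 : 1 ≤ (p' + 1) ^ q' := Nat.one_le_pow _ _ (by omega)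
  nlinarith

/-- The coefficient of `τ₁ λ'` in `Y` cannot carry the exceptional order. -/
theorem cross_left {p q v : ℕ} (hp : p.Prime) (hq : q.Prime) (hq3 : 3 ≤ q) (hqp : q < p)
    (hne : ¬ (q = 3 ∧ p = 5)) (hv : v * (q - 1) + 1 = q ^ p)
    (h : v ≤ p * q * (p * q - 1) + 1) : False := by
  have hp2 : q + 2 ≤ p := by
    have hpo := Nat.odd_iff.1 (hp.odd_of_ne_two (by omega))
    have hqo := Nat.odd_iff.1 (hq.odd_of_ne_two (by omega))
    omega
  have hv1 : q ^ (p - 1) ≤ v := base_le (by omega) (by omega) hv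
  have h2 : q ^ (p - 1) ≤ p * q * (p * q) := by
    refine hv1.trans (h.trans ?_)
    have h3 : 1 ≤ p * q := Nat.one_le_iff_ne_zero.2 (Nat.mul_ne_zero (by omega) (by omega))
    calc p * q * (p * q - 1) + 1 ≤ p * q * (p * q - 1) + p * q := by omega
      _ = p * q * (p * q) := by rw [← Nat.mul_succ]; congr 1; omega
  have h3 : q ^ (p - 3) ≤ p * p := by
    refine Nat.le_of_mul_le_mul_right ?_ (show 0 < q * q by positivity)
    calc q ^ (p - 3) * (q * q) = q ^ (p - 1) := by
          rw [← sq, ← pow_add]; congr 1; omega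
      _ ≤ p * q * (p * q) := h2
      _ = p * p * (q * q) := by ring
  have h7 : 7 ≤ p := by
    rcases Nat.lt_or_ge p 7 with h' | h'
    · interval_cases p <;> first | omega | (exfalso; norm_num at hp)
    · exact h'
  have h4 : 3 ^ (p - 3) ≤ p * p := (Nat.pow_le_pow_left hq3 _).trans h3
  have h5 : ∀ n, 7 ≤ n → n * n < 3 ^ (n - 3) := by
    intro n hn
    induction n, hn using Nat.le_induction with
    | base => norm_num
    | succ n hn ih =>
      rw [show n + 1 - 3 = (n - 3) + 1 by omega, pow_succ]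
      nlinarith
  exact absurd h4 (not_le.2 (h5 p h7))

/-- The coefficient of `τ₁ λ` in `Y'` cannot carry the order of `L_F`. -/
theorem cross_right {p q M u k m W : ℕ} (hp : p.Prime) (hq : q.Prime) (hq3 : 3 ≤ q) (hqp : q < p)
    (hM : M * (p - 1) + 1 = p ^ q) (hu : u * k = M) (hkodd : Odd k) (hk1 : k ≠ 1)
    (hkle : k ≤ q * q) (hm : 2 * q + 1 ≤ m) (hmq : k = q → m % p = q % p ∧ Odd m)
    (hW : q * W + (p - 1) * (k - 1) + p * q ≤ q * (p * q))
    (hWdef : p * q * W + 1 = u * m) : False := by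
  have hk : k ∣ M := Dvd.intro_left u hu
  have hMge : p ^ (q - 1) ≤ M := base_le (by omega) (by omega) hM
  have hmk : m * M = k * (p * q * W + 1) := by rw [hWdef, ← hu]; ring
  rcases Nat.lt_or_ge q 7 with hq7 | hq7
  swap
  · have h1 : p ^ 6 ≤ M := (Nat.pow_le_pow_right (by omega) (by omega)).trans hMge
    have h2 : W ≤ p * q := Nat.le_of_mul_le_mul_left (show q * W ≤ q * (p * q) by omega) (by omega)
    have h3 : (2 * q + 1) * p ^ 6 ≤ q * q * (p * q * (p * q) + 1) := by
      calc (2 * q + 1) * p ^ 6 ≤ m * M := Nat.mul_le_mul hm h1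
        _ = k * (p * q * W + 1) := hmk
        _ ≤ q * q * (p * q * (p * q) + 1) := by
            exact Nat.mul_le_mul hkle (by nlinarith)
    have hqq : q * q ≤ p * p := Nat.mul_le_mul hqp.le hqp.le
    have h4 : q * q * (p * q * (p * q) + 1) ≤ 2 * p ^ 6 := by
      calc q * q * (p * q * (p * q) + 1) ≤ p * p * (2 * (p ^ 4)) := by
            refine Nat.mul_le_mul hqq ?_
            have : 1 ≤ p ^ 4 := Nat.one_le_pow _ _ hp.pos
            have : p * q * (p * q) ≤ p ^ 4 := by
              calc p * q * (p * q) = p * p * (q * q) := by ring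
                _ ≤ p * p * (p * p) := Nat.mul_le_mul_left _ hqq
                _ = p ^ 4 := by ring
            omega
        _ = 2 * p ^ 6 := by ring
    have h5 : 0 < p ^ 6 := pow_pos hp.pos _
    nlinarith
  have hq5 : q = 3 ∨ q = 5 := by
    interval_cases q <;> first | (exact Or.inl rfl) | (exact Or.inr rfl) | (exfalso; norm_num at hq)
  have hpo := Nat.odd_iff.1 (hp.odd_of_ne_two (by omega))
  rcases hq5 with rfl | rfl
  · have hp5 : 5 ≤ p := by omega
    have hM3 : M = p * p + p + 1 := by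
      obtain ⟨p', rfl⟩ : ∃ p', p = p' + 1 := ⟨p - 1, by omega⟩
      simp only [Nat.add_sub_cancel] at hM
      exact Nat.eq_of_mul_eq_mul_right (m := p') (by omega) (by linarith [hM])
    rcases cofactor_cases hp hq le_rfl hM hk hkodd hk1 with h | h
    · obtain ⟨k', rfl⟩ := h
      have hk3 : k' = 1 ∨ k' = 3 := by
        have hk'le : k' ≤ 3 := by omega
        have := Nat.odd_iff.1 hkodd
        interval_cases k' <;> omega
      rcases hk3 with rfl | rfl
      · obtain ⟨hmp, hmo⟩ := hmq rfl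
        rw [Nat.mod_eq_of_lt (show 3 < p by omega)] at hmp
        have hmo' := Nat.odd_iff.1 hmo
        have h6 : 2 * p + 3 ≤ m := by
          have h := Nat.div_add_mod m p
          rw [hmp] at h
          rcases hc : m / p with _ | _ | c
          · rw [hc] at h; omega
          · rw [hc] at h; omega
          · rw [hc] at h; nlinarith
        obtain ⟨p', rfl⟩ : ∃ p', p = p' + 1 := ⟨p - 1, by omega⟩
        simp only [Nat.add_sub_cancel] at hW
        have h7 := Nat.mul_le_mul_right M h6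
        nlinarith
      · exfalso
        subst hM3
        obtain ⟨t, ht⟩ := hk
        rcases Nat.lt_or_ge (p % 9) 9 with h9 | h9
        · have e : (p * p + p + 1) % 9 = 0 := by rw [ht]; omega
          rw [Nat.add_mod, Nat.add_mod (p * p), Nat.mul_mod] at e
          interval_cases hr : p % 9 <;> simp_all
        · omega
    · have hk7 : k = 7 := by
        have := Nat.odd_iff.1 hkodd
        have hk9 : k ≤ 9 := hkle
        rcases (show k = 7 ∨ k = 9 by omega) with e | e
        · exact e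
        · exfalso
          subst e
          have h3 := dvd_mod_eq_one hp hq hM ((by norm_num : 3 ∣ 9).trans hk)
          by_cases h33 : 3 ∣ 3
          · obtain ⟨t, ht⟩ := hk
            subst hM3
            have e : (p * p + p + 1) % 9 = 0 := by rw [ht]; omega
            have h9 : p % 9 < 9 := Nat.mod_lt _ (by norm_num)
            rw [Nat.add_mod, Nat.add_mod (p * p), Nat.mul_mod] at e
            interval_cases hr : p % 9 <;> simp_all
          · exact h33 dvd_rfl
      subst hk7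
      have hp7 : 7 ≤ p := by
        by_contra hlt
        have e : p = 5 := by omega
        subst e
        rw [hM3] at hk
        norm_num at hk
      have h7 := Nat.mul_le_mul_right M hm
      obtain ⟨p', rfl⟩ : ∃ p', p = p' + 1 := ⟨p - 1, by omega⟩
      simp only [Nat.add_sub_cancel] at hW
      nlinarith
  · have hp7 : 7 ≤ p := by omega
    have h2 : W ≤ p * 5 := by omega
    have h3 : 11 * p ^ 4 ≤ 25 * (p * 5 * (p * 5) + 1) := by
      calc 11 * p ^ 4 ≤ m * M := Nat.mul_le_mul hm hMge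
        _ = k * (p * 5 * W + 1) := hmk
        _ ≤ 25 * (p * 5 * (p * 5) + 1) := Nat.mul_le_mul hkle (by nlinarith)
    rcases Nat.lt_or_ge p 11 with hp11 | hp11
    · have hp77 : p = 7 := by
        interval_cases p <;> first | rfl | (exfalso; norm_num at hp) | omega
      subst hp77
      have hM7 : M = 2801 := by norm_num at hM; omega
      subst hM7
      have := Nat.le_of_dvd (by norm_num) hk
      interval_cases k <;> omega
    · have : 121 ≤ p * p := Nat.mul_le_mul hp11 hp11
      nlinarith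

/-- In the split case the members of `S(1)` are too few. -/
theorem split_contra {p q a c u : ℕ} (hq3 : 3 ≤ q) (hqo : Odd q) (hqp : q + 2 ≤ p) (ha : 2 * a ≤ p - 1)
    (ha1 : 1 < a) (haodd : Odd a) (hc : c * c ≤ q + 1) (hu : u ≤ c * a)
    (hbound : p ^ q ≤ u * (p - 1 + q * (p * q - p)) + 1) : False := by
  have hu1 : u ≤ c * a := hu
  rcases Nat.lt_or_ge q 5 with hq5 | hq5
  · obtain rfl : q = 3 := by have := Nat.odd_iff.1 hqo; omega
    have hc2 : c ≤ 2 := by
      by_contra h
      have h9 : 3 * 3 ≤ c * c := Nat.mul_le_mul (by omega) (by omega)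
      omega
    obtain ⟨p', rfl⟩ : ∃ p', p = p' + 1 := ⟨p - 1, by omega⟩
    simp only [Nat.add_sub_cancel] at ha hbound
    have hu2 : u ≤ p' := le_trans hu1 (le_trans (Nat.mul_le_mul_right a hc2) ha)
    rw [show (p' + 1) * 3 - (p' + 1) = 2 * (p' + 1) by omega] at hbound
    have h1 : u * (p' + 3 * (2 * (p' + 1))) ≤ p' * (p' + 3 * (2 * (p' + 1))) :=
      Nat.mul_le_mul_right _ hu2
    have hp5 : p' ≤ 4 := by
      by_contra hlt
      have h5 : p' * p' * 5 ≤ p' * p' * p' := Nat.mul_le_mul_left _ (by omega)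
      nlinarith
    have := Nat.odd_iff.1 haodd
    omega
  · have hp7 : 7 ≤ p := by omega
    have hcq : c ≤ q + 1 := by
      rcases Nat.eq_zero_or_pos c with h | h
      · omega
      · exact (Nat.le_mul_of_pos_left c h).trans hc
    have h2 : 2 * c * a ≤ (q + 1) * p := by
      calc 2 * c * a = c * (2 * a) := by ring
        _ ≤ (q + 1) * p := Nat.mul_le_mul hcq (by omega)
    have h3 : p - 1 + q * (p * q - p) ≤ q * q * p := by
      rw [Nat.mul_sub, show q * (p * q) = q * q * p by ring]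
      have : q * p ≤ q * q * p := Nat.mul_le_mul_right _ (Nat.le_mul_self q)
      have : p ≤ q * p := Nat.le_mul_of_pos_left _ (by omega)
      omega
    have h4 : 2 * p ^ q ≤ (q + 1) * p * (q * q * p) + 2 := by
      have := Nat.mul_le_mul (show 2 * u ≤ (q + 1) * p by nlinarith) h3
      nlinarith
    have h6 : p * p * (p * p * p) ≤ p ^ q := by
      calc p * p * (p * p * p) = p ^ 5 := by ring
        _ ≤ p ^ q := Nat.pow_le_pow_right (by omega) hq5
    have h7 : (q + 1) * (q * q) + 2 ≤ p * p * p := by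
      have h8 : q + 1 ≤ p - 1 := by omega
      have h9 : q * q ≤ p * p := Nat.mul_le_mul (by omega) (by omega)
      have h10 : (q + 1) * (q * q) ≤ (p - 1) * (p * p) := Nat.mul_le_mul h8 h9
      have h11 : (p - 1) * (p * p) + p * p = p * p * p := by
        calc (p - 1) * (p * p) + p * p = (p - 1 + 1) * (p * p) := by ring
          _ = p * p * p := by rw [Nat.sub_add_cancel (by omega)]; ring
      have h12 : 2 ≤ p * p := by nlinarith
      omega
    have h14 := Nat.mul_le_mul_left (p * p) h7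
    have h13 : 7 * 7 ≤ p * p := Nat.mul_le_mul hp7 hp7
    have h15 : (0 : ℕ) ≤ p * p * (p * p * p) := Nat.zero_le _
    have e : (q + 1) * p * (q * q * p) = p * p * ((q + 1) * (q * q)) := by ring
    rw [e] at h4
    rw [mul_add] at h14
    omega

/-- The counting case is impossible. -/
theorem count_contra {p q u v W : ℕ} (hq3 : 3 ≤ q) (hqp : q < p) (hu : p * p ≤ u) (hv : q ≤ v)
    (hW : 2 * u ≤ W)
    (h : (W : ℝ) * (((p : ℝ) + q - 3) / ((p : ℝ) * q) - 1 / ((u : ℝ) * q) - 1 / ((v : ℝ) * p)) ≤ 1) :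
    False := by
  have hqr : (3 : ℝ) ≤ q := by exact_mod_cast hq3
  have hpr : (q : ℝ) + 1 ≤ p := by exact_mod_cast hqp
  have hur : (p : ℝ) * p ≤ u := by exact_mod_cast hu
  have hvr : (q : ℝ) ≤ v := by exact_mod_cast hv
  have hWr : 2 * (u : ℝ) ≤ W := by exact_mod_cast hW
  have hp0 : (0 : ℝ) < p := by linarith
  have hq0 : (0 : ℝ) < q := by linarith
  have h1 : 1 / ((u : ℝ) * q) ≤ 1 / ((p : ℝ) * q) :=
    one_div_le_one_div_of_le (by positivity) (mul_le_mul_of_nonneg_right (by nlinarith) hq0.le)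
  have h2 : 1 / ((v : ℝ) * p) ≤ 1 / ((p : ℝ) * q) :=
    one_div_le_one_div_of_le (by positivity) (by nlinarith)
  have h3 : 1 / ((p : ℝ) * q) ≤ ((p : ℝ) + q - 3) / ((p : ℝ) * q) - 1 / ((u : ℝ) * q) -
      1 / ((v : ℝ) * p) := by
    have h4 : 3 / ((p : ℝ) * q) ≤ ((p : ℝ) + q - 3) / ((p : ℝ) * q) :=
      div_le_div_of_nonneg_right (by linarith) (by positivity)
    have h5 : 3 / ((p : ℝ) * q) = 1 / ((p : ℝ) * q) + 1 / ((p : ℝ) * q) + 1 / ((p : ℝ) * q) := by
      ring
    linarith
  have h6 : (W : ℝ) * (1 / ((p : ℝ) * q)) ≤ 1 :=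
    (mul_le_mul_of_nonneg_left h3 (Nat.cast_nonneg W)).trans h
  rw [mul_one_div, div_le_one (by positivity)] at h6
  nlinarith

end Cfsg.Agent.OddChar.TypeP.Exceptional.Arith
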