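import Cfsg.Agent.OddChar.TypeP.Exceptional.Arith
import Cfsg.Agent.OddChar.TypeP.Tools.Degrees
import Cfsg.Agent.OddChar.TypeP.Tools.Pair
import Cfsg.Agent.OddChar.TypeP.Pair.Assembly
import Cfsg.Agent.OddChar.TypeP.Centralizer.Over
import Cfsg.Agent.OddChar.TypeP.NoTypeV
import Cfsg.Agent.OddChar.TypeP.Dichotomy
import Cfsg.Agent.OddChar.TypeP.Chief

/-!
# One member of the pair: `S_F` elementary of order `p ^ q`, `C_U(S_F) = 1`
-/

set_option autoImplicit false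
set_option linter.unusedSectionVars false
set_option linter.style.haveILetI false

namespace Cfsg.Agent.OddChar.TypeP.Exceptional

open Cfsg Subgroup
open Cfsg.Agent.OddLocal
open Cfsg.Agent.OddChar.TypeP.Tools

universe u

variable {G : Type u} [Group G] [Finite G] {M W₁ U W₂ : Subgroup G}

/-- A maximal subgroup of type II or III with the facts of sections 4 and 5. -/
structure Side (M W₁ U W₂ : Subgroup G) : Prop where
  hG : IsMinSimpleOddOrder G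
  hM : IsCoatom M
  hP : IsTypePWith M W₁ U W₂
  hq : (Nat.card W₁).Prime
  hp : (Nat.card W₂).Prime
  el : IsElementaryAbelian (Nat.card W₂) (fittingHallOf M)
  card : Nat.card (fittingHallOf M) = Nat.card W₂ ^ Nat.card W₁
  cent : U ⊓ centralizer ((fittingHallOf M : Subgroup G) : Set G) = ⊥
  comm : IsMulCommutative U
  ne : U ≠ ⊥
  types : IsOfTypeII M ∨ IsOfTypeIII M

theorem sides (h3 : TypeThreeStatement.{u}) (hC : CentralizerStatement.{u})
    (hG : IsMinSimpleOddOrder G) {S T W₁ W₂ U V : Subgroup G} (h : PairData S T W₁ W₂ U V) :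
    Side S W₁ U W₂ ∧ Side T W₂ V W₁ := by
  have key : ∀ {S T W₁ W₂ U V : Subgroup G}, PairData S T W₁ W₂ U V → Side S W₁ U W₂ := by
    intro S T W₁ W₂ U V h
    obtain ⟨hq, hp⟩ := Pair.primes noTypeV hG S T W₁ W₂ U V h
    obtain ⟨hel, hcard⟩ := Pair.fcore noTypeV h3 chiefStatement_proof hG S T W₁ W₂ U V h
    have ht : IsOfTypeII S ∨ IsOfTypeIII S ∨ IsOfTypeIV S := Pair.types noTypeV hG h
    refine ⟨hG, h.hS, h.hSP, hq, hp, hel, hcard, hC hG S T W₁ W₂ U V h, ?_,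
      Pair.U_ne_bot hG h.hS h.hSP ht, ?_⟩
    · rcases ht with e | e
      · exact Pair.U_abelian_of_II hG h.hS h.hSP e
      · haveI := (h3 hG S W₁ U W₂ h.hS h.hSP e).2.2.1
        exact IsCyclic.isMulCommutative
    · rcases ht with e | e | e
      exacts [Or.inl e, Or.inr e, absurd e (h3 hG S W₁ U W₂ h.hS h.hSP (Or.inr e)).1]
  exact ⟨key h, key h.symm⟩

namespace Side

variable (s : Side M W₁ U W₂)
include s

theorem odd_card (H : Subgroup G) : Odd (Nat.card H) := Pair.odd_card s.hG H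

theorem three_le {H : Subgroup G} (h : (Nat.card H).Prime) : 3 ≤ Nat.card H := by
  have h2 := h.two_le
  have := Nat.odd_iff.1 (s.odd_card H)
  omega

theorem q_three : 3 ≤ Nat.card W₁ := s.three_le s.hq

theorem p_three : 3 ≤ Nat.card W₂ := s.three_le s.hp

theorem chief : ∃ r, ChiefData M W₁ U W₂ ⊥ ⊥ r ∧ r = Nat.card W₂ := by
  obtain ⟨H₀, C, r, d⟩ := chiefStatement_proof s.hG M W₁ U W₂ s.hM s.hP s.ne s.hq
  obtain ⟨hr, rfl⟩ := Pair.chief_bot s.hp s.card d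
  have hC : C = ⊥ := by
    refine eq_bot_iff.mpr fun u hu => ?_
    rw [← s.cent]
    have hu' : u ∈ sectionCentralizer U (fittingHallOf M) ⊥ := d.cent ▸ hu
    refine mem_inf.mpr ⟨hu'.1, mem_centralizer_iff.mpr fun x hx => ?_⟩
    have e := mem_bot.mp (hu'.2 x hx)
    rw [mul_inv_eq_one, mul_inv_eq_iff_eq_mul] at e
    exact e.symm
  subst hC
  exact ⟨r, d, hr⟩

theorem exists_sctx [Fintype G] [Fintype M] : ∃ τ₁, SCtx M W₁ U W₂ τ₁ := by
  obtain ⟨r, d, -⟩ := s.chief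
  exact Tools.exists_sctx s.hG s.hM s.hP s.hq d rfl
    (le_bot_iff.mp (Subgroup.commutator_le_self ⊥))

theorem dichotomy : (∃ r, r = Nat.card W₂ ∧ GaloisData M W₁ U W₂ ⊥ ⊥ r) ∨
    ∃ H₁ C₁ a, SplitData M W₁ U W₂ ⊥ ⊥ H₁ C₁ (Nat.card W₂) a := by
  obtain ⟨r, d, rfl⟩ := s.chief
  rcases dichotomyStatement_proof s.hG M W₁ U W₂ ⊥ ⊥ _ s.hM s.hP s.hq d with h | h
  exacts [Or.inl ⟨_, rfl, h⟩, Or.inr h]

theorem galois_dvd {r : ℕ} (hr : r = Nat.card W₂) (h : GaloisData M W₁ U W₂ ⊥ ⊥ r) :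
    Nat.card U * (Nat.card W₂ - 1) ∣ Nat.card W₂ ^ Nat.card W₁ - 1 := by
  have := h.dvd
  rwa [relIndex_bot_left, hr] at this

theorem split_facts {H₁ C₁ : Subgroup G} {a : ℕ}
    (h : SplitData M W₁ U W₂ ⊥ ⊥ H₁ C₁ (Nat.card W₂) a) :
    Nat.card U ∣ a ^ (Nat.card W₁ - 1) ∧ a ∣ Nat.card W₂ - 1 ∧ Odd a ∧ 1 < a ∧
      2 * a ≤ Nat.card W₂ - 1 := by
  have hodd : Odd a := h.index₁ ▸ (s.odd_card U).of_dvd_nat (relIndex_dvd_card C₁ U)
  have h1 := h.index_dvd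
  rw [relIndex_bot_left] at h1
  have hp2 := Nat.odd_iff.1 (s.odd_card W₂)
  have := s.p_three
  refine ⟨h1, h.dvd, hodd, h.one_lt, Nat.le_of_dvd (by omega)
    (Nat.Coprime.mul_dvd_of_dvd_of_dvd (Nat.coprime_two_left.2 hodd) ?_ h.dvd)⟩
  exact Nat.dvd_of_mod_eq_zero (by omega)

/-- The order `(p ^ q - 1)/(p - 1)`. -/
theorem exists_geom : ∃ N : ℕ, N * (Nat.card W₂ - 1) + 1 = Nat.card W₂ ^ Nat.card W₁ ∧ Odd N ∧
    Nat.card W₂ ^ (Nat.card W₁ - 1) ≤ N := by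
  have hp1 := s.hp.one_lt
  have hg := geom_sum_mul_of_one_le hp1.le (Nat.card W₁)
  have h1 : 1 ≤ Nat.card W₂ ^ Nat.card W₁ := Nat.one_le_pow _ _ s.hp.pos
  have hN : (∑ k ∈ Finset.range (Nat.card W₁), Nat.card W₂ ^ k) * (Nat.card W₂ - 1) + 1 =
      Nat.card W₂ ^ Nat.card W₁ := by omega
  refine ⟨_, hN, ?_, Arith.base_le hp1 s.hq.pos hN⟩
  rw [Nat.odd_iff, Finset.sum_nat_mod,
    Finset.sum_congr rfl fun k _ => show Nat.card W₂ ^ k % 2 = 1 from
      Nat.odd_iff.1 ((s.odd_card W₂).pow), Finset.sum_const, Finset.card_range, smul_eq_mul,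
    mul_one]
  exact Nat.odd_iff.1 (s.odd_card W₁)

omit s in
theorem exceptional_iff (hp : 1 ≤ Nat.card W₂) :
    IsExceptional W₁ U W₂ ↔
      Nat.card U * (Nat.card W₂ - 1) + 1 = Nat.card W₂ ^ Nat.card W₁ := by
  have : 1 ≤ Nat.card W₂ ^ Nat.card W₁ := Nat.one_le_pow _ _ hp
  unfold IsExceptional
  omega

/-- A proper cofactor in the irreducible case. -/
theorem cofactor (hne : ¬ IsExceptional W₁ U W₂) {r : ℕ} (hr : r = Nat.card W₂)
    (h : GaloisData M W₁ U W₂ ⊥ ⊥ r) :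
    ∃ N k : ℕ, N * (Nat.card W₂ - 1) + 1 = Nat.card W₂ ^ Nat.card W₁ ∧ Nat.card U * k = N ∧
      k ∣ N ∧ Odd k ∧ k ≠ 1 ∧ Nat.card W₁ ≤ k := by
  obtain ⟨N, hN, hNodd, -⟩ := s.exists_geom
  have hp1 := s.hp.one_lt
  have hd := s.galois_dvd hr h
  rw [show Nat.card W₂ ^ Nat.card W₁ - 1 = N * (Nat.card W₂ - 1) by omega] at hd
  obtain ⟨k, hk⟩ := Nat.dvd_of_mul_dvd_mul_right (by omega) hd
  have hkd : k ∣ N := hk ▸ dvd_mul_left k _
  have hkodd : Odd k := hNodd.of_dvd_nat hkd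
  have hk1 : k ≠ 1 := fun e => hne ((exceptional_iff hp1.le).2 (by
    rw [e, mul_one] at hk; rw [← hk]; exact hN))
  exact ⟨N, k, hN, hk.symm, hkd, hkodd, hk1,
    Arith.q_le_cofactor s.hp s.hq s.q_three hN hkd hkodd hk1⟩

/-- Unless exceptional, `q |U| ≤ (p ^ q - 1)/(p - 1)`. -/
theorem not_exceptional_bound (hne : ¬ IsExceptional W₁ U W₂) :
    Nat.card W₁ * Nat.card U * (Nat.card W₂ - 1) + 1 ≤ Nat.card W₂ ^ Nat.card W₁ := by
  rcases s.dichotomy with ⟨r, hr, h⟩ | ⟨H₁, C₁, a, h⟩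
  · obtain ⟨N, k, hN, hk, -, -, -, hle⟩ := s.cofactor hne hr h
    rw [← hN, ← hk]
    exact Nat.add_le_add_right (Nat.mul_le_mul_right _ (by
      rw [mul_comm (Nat.card U)]; exact Nat.mul_le_mul_right _ hle)) 1
  · obtain ⟨N, hN, -, hbase⟩ := s.exists_geom
    obtain ⟨hu, -, -, ha1, ha⟩ := s.split_facts h
    rw [← hN]
    refine Nat.add_le_add_right (Nat.mul_le_mul_right _ (le_trans ?_ hbase)) 1
    have hua : Nat.card U ≤ a ^ (Nat.card W₁ - 1) := Nat.le_of_dvd (pow_pos (by omega) _) hu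
    have hq2 : Nat.card W₁ ≤ 2 ^ (Nat.card W₁ - 1) := by
      have h1 := @Nat.lt_two_pow_self (Nat.card W₁ - 1)
      have := s.hq.pos
      omega
    calc Nat.card W₁ * Nat.card U ≤ 2 ^ (Nat.card W₁ - 1) * a ^ (Nat.card W₁ - 1) :=
          Nat.mul_le_mul hq2 hua
      _ = (2 * a) ^ (Nat.card W₁ - 1) := (Nat.mul_pow _ _ _).symm
      _ ≤ Nat.card W₂ ^ (Nat.card W₁ - 1) := Nat.pow_le_pow_left (by omega) _

/-- An exceptional member is in the irreducible case. -/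
theorem galois_of_exceptional (he : IsExceptional W₁ U W₂) :
    ∃ r, r = Nat.card W₂ ∧ GaloisData M W₁ U W₂ ⊥ ⊥ r := by
  rcases s.dichotomy with h | ⟨H₁, C₁, a, h⟩
  · exact h
  exfalso
  obtain ⟨hu, had, -, -, -⟩ := s.split_facts h
  have hM := (exceptional_iff s.hp.one_lt.le).1 he
  have hdiv : (Nat.card W₂ ^ Nat.card W₁ - 1) / (Nat.card W₂ - 1) = Nat.card U := by
    rw [← hM, Nat.add_sub_cancel, Nat.mul_div_cancel _ (Nat.sub_pos_of_lt s.hp.one_lt)]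
  have hodd : ∀ {H : Subgroup G}, (Nat.card H).Prime → Nat.card H ≠ 2 := fun {H} hH e => by
    have := s.three_le hH; omega
  obtain ⟨-, hmod, hcop⟩ := S1546.result (Nat.card W₂) (Nat.card W₁) s.hp s.hq (hodd s.hp) (hodd s.hq)
  have hne1 : Nat.card W₂ % Nat.card W₁ ≠ 1 := fun e => s.hq.ne_one
    (Nat.eq_one_of_dvd_coprimes (coprime_U_W₁ s.hP) (hdiv ▸ hmod e) dvd_rfl)
  have hcopN := (hcop hne1).1
  rw [hdiv] at hcopN
  exact s.ne (card_eq_one.mp ((hcopN.pow_right _).eq_one_of_dvd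
    (hu.trans (pow_dvd_pow_of_dvd had _))))

/-- In the irreducible case `U` is cyclic. -/
theorem cyclic_of_galois {r : ℕ} (g : GaloisData M W₁ U W₂ ⊥ ⊥ r) : IsCyclic U := by
  obtain ⟨u, hu, hgen⟩ := g.cyclic
  refine ⟨⟨⟨u, hu⟩, fun ⟨v, hv⟩ => ?_⟩⟩
  obtain ⟨n, hn⟩ := hgen v hv
  refine ⟨-n, Subtype.ext ?_⟩
  show ((⟨u, hu⟩ : U) ^ (-n) : U).1 = v
  rw [SubgroupClass.coe_zpow, zpow_neg, inv_eq_iff_mul_eq_one]
  rw [mem_bot, mul_eq_one_iff_eq_inv] at hn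
  show u ^ n * v = 1
  rw [hn, mul_inv_cancel]

theorem cyclic_of_exceptional (he : IsExceptional W₁ U W₂) : IsCyclic U := by
  obtain ⟨r, -, g⟩ := s.galois_of_exceptional he
  exact s.cyclic_of_galois g

/-- In an exceptional member the centralisers of `S_F - 1` in `M'` are in `S_F`. -/
theorem free_of_exceptional (he : IsExceptional W₁ U W₂) :
    ∀ x ∈ fittingHallOf M, x ≠ 1 →
      ⁅M, M⁆ ⊓ centralizer ({x} : Set G) ≤ fittingHallOf M := by
  obtain ⟨r, -, g⟩ := s.galois_of_exceptional he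
  intro x hx hx1 m hm
  obtain ⟨hmd, hmc⟩ := mem_inf.mp hm
  obtain ⟨a, ha, v, hv, rfl⟩ := s.hP.U_compl.2.2.2 m hmd
  by_cases hv1 : v = 1
  · rwa [hv1, mul_one]
  refine absurd (mem_bot.mp (g.free v hv (fun h => hv1 (mem_bot.mp h)) x hx (mem_bot.mpr ?_))) hx1
  have e := mem_centralizer_singleton_iff.mp hmc
  have hcomm : a * x = x * a :=
    congrArg Subtype.val (s.el.1.is_comm.comm (⟨a, ha⟩ : fittingHallOf M) ⟨x, hx⟩)
  have e2 : v * x = x * v := mul_left_cancel (a := a) (by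
    rw [← mul_assoc, ← mul_assoc, hcomm, mul_assoc x a v]; exact e)
  rw [mul_inv_eq_one, mul_inv_eq_iff_eq_mul, e2]

/-- Without irreducible members `M` is exceptional, granted the degree of the columns. -/
theorem exceptional_of_no_member [Fintype G] [Fintype M]
    {μ : (↥(W₁ ⊔ W₂) →* ℂˣ) → ↥M → ℂ} {δ : (↥(W₁ ⊔ W₂) →* ℂˣ) → ℂ}
    (hμ : MuData M W₁ W₂ μ δ) (hd : ∀ j ∈ rightSet W₁ W₂, j ≠ 1 → μ j 1 = (Nat.card U : ℂ))
    (hno : irrMem M = ∅) : IsExceptional W₁ U W₂ := by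
  have h := sum_degrees s.hG s.hM s.hP hμ hd
  rw [hno, Finset.sum_empty, mul_zero, add_zero, s.card] at h
  refine (exceptional_iff s.hp.one_lt.le).2 ?_
  refine Nat.eq_of_mul_eq_mul_right (Nat.card_pos (α := U)) ?_
  rw [← h]
  ring

end Side

end Cfsg.Agent.OddChar.TypeP.Exceptional
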