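import Cfsg.Agent.OddChar.TypeP.Exceptional.Basic
import Cfsg.Agent.OddChar.TypeP.Tools.Gamma
import Cfsg.Agent.OddChar.TypeP.Tools.Cross

/-!
# The bound from `τ Γ` (notes/ft/endgame.md, section 4: PARITY)
-/

set_option autoImplicit false
set_option linter.unusedSectionVars false
set_option linter.style.haveILetI false

namespace Cfsg.Agent.OddChar.TypeP.Exceptional

open Cfsg Subgroup
open Cfsg.Agent.OddLocal
open Cfsg.Agent.Characters Cfsg.Agent.OddChar.Signed Cfsg.Agent.OddChar.Isometry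
open Cfsg.Agent.OddChar.TypeP.Tools

universe u

variable {G : Type u} [Group G] [Fintype G] {L S T W₁ W₂ U V : Subgroup G}
  {η : (↥(W₁ ⊔ W₂) →* ℂˣ) → G → ℂ}

namespace Side

theorem ghyp (s : Side S W₁ U W₂) : GHyp S W₁ U W₂ :=
  ⟨s.hG, s.hM, s.hP, s.hq, s.hp, s.el, s.card, s.ne, s.comm⟩

theorem relIndex_centU (s : Side S W₁ U W₂) : (centU S U).relIndex U = Nat.card U := by
  rw [show centU S U = ⊥ from s.cent, relIndex_bot_left]

/-- The degree of the columns. -/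
theorem mu_one [Fintype S] (s : Side S W₁ U W₂) {μ : (↥(W₁ ⊔ W₂) →* ℂˣ) → ↥S → ℂ}
    {δ : (↥(W₁ ⊔ W₂) →* ℂˣ) → ℂ} (hμ : MuData S W₁ W₂ μ δ) :
    ∀ j ∈ rightSet W₁ W₂, j ≠ 1 → μ j 1 = (Nat.card U : ℂ) := fun j hj hj1 => by
  rw [s.ghyp.mu_one hj hj1 hμ, s.relIndex_centU]

theorem exists_mu [Fintype S] (s : Side S W₁ U W₂) :
    ∃ μ δ, MuData S W₁ W₂ μ δ ∧ ∀ j ∈ rightSet W₁ W₂, j ≠ 1 → μ j 1 = (Nat.card U : ℂ) := by
  obtain ⟨μ, δ, hμ⟩ := mu s.hG S W₁ U W₂ s.hM s.hP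
  exact ⟨μ, δ, hμ, s.mu_one hμ⟩

/-- Without irreducible members `S` is exceptional. -/
theorem exceptional_of_irrMem_empty [Fintype S] (s : Side S W₁ U W₂) (h : irrMem S = ∅) :
    IsExceptional W₁ U W₂ := by
  obtain ⟨μ, δ, hμ, hd⟩ := s.exists_mu
  exact s.exceptional_of_no_member hμ hd h

end Side

theorem exists_left_ne_one (hTP : IsTypePWith T W₂ V W₁) :
    ∃ i ∈ leftSet W₁ W₂, i ≠ 1 := by
  obtain ⟨j, hj, hj1⟩ := exists_right_ne_one hTP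
  exact ⟨swapDual j, swapDual_mem_leftSet.2 hj, fun e => hj1 (by
    rw [← swapDual_swapDual j, e, swapDual_one])⟩

theorem inner_eta_one (hη : IsCyclicTIFamily W₁ W₂ η) {j : ↥(W₁ ⊔ W₂) →* ℂˣ} (hj1 : j ≠ 1) :
    classInner (η j) (fun _ => 1) = 0 := by
  rw [← hη.map_one, hη.orthonormal, if_neg hj1]

/-- The `η`-part of `τ Γ j` has norm at least `2`. -/
theorem two_le_sum_sq [Fintype S] [Fintype (↥(W₁ ⊔ W₂) →* ℂˣ)] (s : Side S W₁ U W₂)
    (hη : IsCyclicTIFamily W₁ W₂ η) (hTP : IsTypePWith T W₂ V W₁) {j : ↥(W₁ ⊔ W₂) →* ℂˣ}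
    (hj : j ∈ rightSet W₁ W₂) (hj1 : j ≠ 1) {b : (↥(W₁ ⊔ W₂) →* ℂˣ) → ℤ}
    (hb : ∀ ω, classInner (s.ghyp.tauGam j) (η ω) = (b ω : ℂ)) : 2 ≤ ∑ ω, b ω ^ 2 := by
  classical
  have hW := s.hP.selfNormalizing
  obtain ⟨i, hi, hi1⟩ := exists_left_ne_one hTP
  have hb1 : b 1 = 1 := by
    have h := hb 1
    rw [hη.map_one, s.ghyp.inner_tauGam_one hj hj1] at h
    exact_mod_cast h.symm
  by_contra hlt
  push Not at hlt
  have h0 : ∀ ω, ω ≠ 1 → b ω = 0 := fun ω hω => by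
    have h := Finset.add_sum_erase Finset.univ (fun x => b x ^ 2) (Finset.mem_univ 1)
    have h2 : b ω ^ 2 ≤ ∑ x ∈ Finset.univ.erase 1, b x ^ 2 :=
      Finset.single_le_sum (f := fun x => b x ^ 2) (fun x _ => sq_nonneg _)
        (Finset.mem_erase.2 ⟨hω, Finset.mem_univ _⟩)
    simp only [hb1, one_pow] at h
    have : b ω ^ 2 ≤ 0 := by omega
    exact sq_eq_zero_iff.1 (le_antisymm this (sq_nonneg _))
  set Z : G → ℂ := s.ghyp.tauGam j - (η 1 - η j) with hZ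
  have hc : ∀ ω, IsClassFunction G (η ω) := fun ω =>
    isGen_isClassFunction (IsSIrr.isGen (hη.irr_or_neg ω))
  have hgc := isGen_isClassFunction (s.ghyp.isGen_tauGam hj)
  have hZc : IsClassFunction G Z := fun g h => by
    simp only [hZ, Pi.sub_apply]
    rw [hgc g h, hc 1 g h, hc j g h]
  have hZV : ∀ w : ↥(W₁ ⊔ W₂), (w : G) ∉ W₁ → (w : G) ∉ W₂ → Z w = 0 := fun w h1 h2 => by
    simp only [hZ, Pi.sub_apply, s.ghyp.tauGam_apply_W hj w h1 h2, hη.eq_on _ w h1 h2,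
      MonoidHom.one_apply, Units.val_one, sub_self]
  let z : (↥(W₁ ⊔ W₂) →* ℂˣ) → ℤ := fun ω =>
    b ω - ((if (1 : ↥(W₁ ⊔ W₂) →* ℂˣ) = ω then 1 else 0) - (if j = ω then 1 else 0))
  have hz : ∀ ω, classInner Z (η ω) = (z ω : ℂ) := fun ω => by
    rw [hZ, classInner_sub_left, classInner_sub_left, hb, hη.orthonormal, hη.orthonormal]
    simp only [z]
    push_cast
    split_ifs <;> ring
  have hS := CyclicTI.split_of hW
  have hij1 : i * j ≠ 1 := fun e => hi1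
    (hS.mul_inj hi one_mem_leftSet hj one_mem_rightSet (e.trans (one_mul (1 : ↥(W₁ ⊔ W₂) →* ℂˣ)).symm)).1
  have hijj : i * j ≠ j := fun e => hi1
    (hS.mul_inj hi one_mem_leftSet hj hj (e.trans (one_mul j).symm)).1
  have hij : i ≠ j := fun e => hi1 (hS.mul_inj hi one_mem_leftSet one_mem_rightSet hj
    ((mul_one i).trans (e.trans (one_mul j).symm))).1
  have h := coef_grid hη hW hZc hZV hz hi hj
  simp only [z, h0 _ hij1, h0 _ hi1, h0 _ hj1, hb1, if_neg (Ne.symm hij1),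
    if_neg (Ne.symm hijj), if_neg (Ne.symm hi1), if_neg (Ne.symm hij), if_neg (Ne.symm hj1),
    if_neg hj1] at h
  norm_num at h

/-- If `⟨Y, η j⟩` is even for some `j ≠ 0`, then `|L_F| - 1 ≤ [L : L_F] (|U| - 1) / |W₁|`. -/
theorem gamma_bound [Fintype L] [Fintype S] {τ₁ : (↥L → ℂ) → G → ℂ} {lam : ↥L → ℂ}
    (c : LCtx L τ₁ lam) (d : Duo S T W₁ W₂ U V η) (s : Side S W₁ U W₂)
    {j : ↥(W₁ ⊔ W₂) →* ℂˣ} (hj : j ∈ rightSet W₁ W₂) (hj1 : j ≠ 1) {x : ℤ}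
    (hx : classInner (YI L lam) (η j) = (x : ℂ)) (hev : Even x) :
    Nat.card W₁ * (∑ φ ∈ memI L, wI L φ ^ 2) + 1 ≤ Nat.card U := by
  classical
  haveI : Fintype (↥(W₁ ⊔ W₂) →* ℂˣ) := Fintype.ofFinite _
  set g := s.ghyp
  have hgen := g.isGen_tauGam hj
  have hρ : ∀ a ∈ typeA L, TypeOne.Gap.rho (supportR L) (g.tauGam j) a = 0 := fun a ha =>
    rho_tau_eq_zero c.hG c.hL c.hκ d.hS d.hSP (g.classFun_gam j) (g.cosetSumZero_gam j s.cent) ha
  have hY0 : classInner (YI L lam) (g.tauGam j) = 0 := c.inner_Y (isGen_isClassFunction hgen) hρ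
  obtain ⟨t, ht⟩ := classInner_gen_int (c.iso.2.2.2 _ (mem_zS c.lam_mem)) hgen
  have hηj : IsGeneralizedCharacter G (η j) := IsSIrr.isGen (d.hη.irr_or_neg j)
  have hodd : Odd ((x : ℤ) + t) := c.parity (X := g.tauGam j + η j) (isGen_add hgen hηj)
    (g.tauGam_add_eta_real hj hj1 d.hη)
    (by rw [classInner_add_left, g.inner_tauGam_one hj hj1, inner_eta_one d.hη hj1, add_zero])
    (by rw [classInner_add_right, hY0, hx, zero_add])
    (by rw [classInner_add_right, ht, c.inner_eta d.hS d.hSP d.hη c.lam_mem j, add_zero])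
  have ht1 : 1 ≤ t ^ 2 := by
    have ht0 : t ≠ 0 := by
      rintro rfl
      rw [add_zero] at hodd
      exact Int.not_odd_iff_even.2 hev hodd
    exact Int.add_one_le_of_lt (pow_two_pos_of_ne_zero ht0)
  obtain ⟨b, hb⟩ := exists_coef d.hη hgen
  have h := (norm_bound d.hη (memI L) τ₁ (fun _ => 1) (fun _ _ => one_pos)
    (fun φ hφ ψ hψ => by rw [c.inner_images (c.mem.1 hφ) (c.mem.1 hψ), Nat.cast_one])
    (fun φ hφ ω => Coherence.inner_comm_zero (c.inner_eta d.hS d.hSP d.hη (c.mem.1 hφ) ω))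
    (X := g.tauGam j) (u := fun φ => (wI L φ : ℤ) * t)
    (fun φ hφ => inner_comm_int (by
      rw [c.inner_image (isGen_isClassFunction hgen) hρ (c.mem.1 hφ), ht]
      push_cast
      ring)) hb).1
  rw [g.inner_tauGam_self hj hj1, s.relIndex_centU] at h
  have h2 := two_le_sum_sq s d.hη d.hTP hj hj1 hb
  have hsum : ((∑ φ ∈ memI L, wI L φ ^ 2 : ℕ) : ℝ) ≤
      ∑ φ ∈ memI L, (((wI L φ : ℤ) * t : ℤ) : ℝ) ^ 2 / ((1 : ℕ) : ℝ) := by
    push_cast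
    refine Finset.sum_le_sum fun φ _ => ?_
    rw [div_one, mul_pow]
    exact le_mul_of_one_le_right (sq_nonneg _) (by exact_mod_cast ht1)
  have hre : (2 + ((Nat.card U : ℂ) - 1) / (Nat.card W₁ : ℂ)).re =
      2 + ((Nat.card U : ℝ) - 1) / (Nat.card W₁ : ℝ) := by
    simp [Complex.div_natCast_re]
  rw [hre] at h
  have h2' : (2 : ℝ) ≤ ((∑ ω, b ω ^ 2 : ℤ) : ℝ) := by exact_mod_cast h2
  have h3 : ((∑ φ ∈ memI L, wI L φ ^ 2 : ℕ) : ℝ) ≤
      ((Nat.card U : ℝ) - 1) / (Nat.card W₁ : ℝ) := by linarith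
  rw [le_div_iff₀ (Nat.cast_pos.2 Nat.card_pos)] at h3
  have : ((Nat.card W₁ * (∑ φ ∈ memI L, wI L φ ^ 2) + 1 : ℕ) : ℝ) ≤ (Nat.card U : ℝ) := by
    push_cast at h3 ⊢
    linarith
  exact_mod_cast this

end Cfsg.Agent.OddChar.TypeP.Exceptional
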